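import Cfsg.Agent.Lib.EqSubConj.Basic
import Cfsg.Agent.Lib.GW.MainFinal
import Cfsg.Agent.Lib.GW.ConsFull
import Cfsg.Agent.Lib.GW.ConsQuaternion
import Cfsg.Agent.Lib.GW.ConsTwoClasses
import Cfsg.Agent.Lib.GW.ConsCover
import Cfsg.Agent.Lib.GW.KleinPSL
import Cfsg.Agent.Lib.PLocal.QuaternionSection
import Cfsg.Agent.S0253
import Cfsg.Agent.S0813
import Cfsg.Agent.S2427

/-!
# Sylow `2`-subgroups that are cyclic, of order four or quaternion

The groups without odd core in these cases are cyclic `2`-groups, `A₄`, `A₅`, `SL₂(3)` and `SL₂(5)`.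
-/

set_option autoImplicit false
set_option linter.style.haveILetI false

namespace Cfsg.Agent.EqSubConj

open Subgroup Involutions.Basic

universe u

variable {G : Type u} [Group G] [Finite G]

theorem cyclic_case (hO : Cfsg.oddCore G = ⊥) (S : Sylow 2 G) (hS : IsCyclic (S : Subgroup G)) :
    IsCyclic G ∧ IsPGroup 2 G := by
  haveI : Fact (Nat.Prime 2) := ⟨Nat.prime_two⟩
  have htop : (S : Subgroup G) = ⊤ := by
    by_cases h2 : Even (Nat.card G)
    · have hmin : (Nat.card G).minFac = 2 := (Nat.minFac_eq_two_iff _).2 (even_iff_two_dvd.1 h2)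
      have hcompl := IsCyclic.isComplement' hmin hS
      set K := (MonoidHom.transferSylow S (IsCyclic.normalizer_le_centralizer hmin hS)).ker
      have hK : Odd (Nat.card K) := Nat.odd_iff.2 (Nat.two_dvd_ne_zero.1 (by
        rw [← hcompl.index_eq_card]
        exact S.not_dvd_index))
      have hbot : K = ⊥ := le_bot_iff.1 (hO ▸ Cores.le_oddCore hK)
      rw [hbot, Subgroup.isComplement'_bot_left] at hcompl
      exact hcompl
    · have h1 : (⊤ : Subgroup G) = ⊥ := le_bot_iff.1 (hO ▸ Cores.le_oddCore (by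
        rw [Subgroup.card_top]; exact Nat.not_even_iff_odd.1 h2))
      exact le_antisymm le_top (h1 ▸ bot_le)
  have hp := S.2
  rw [htop] at hp hS
  haveI := hS
  exact ⟨isCyclic_of_surjective (Subgroup.topEquiv : (⊤ : Subgroup G) ≃* G).toMonoidHom
    Subgroup.topEquiv.surjective, hp.of_equiv Subgroup.topEquiv⟩

omit [Finite G] in
theorem commute_of_sq {x u : G} (hodd : Odd (orderOf x)) (h : Commute (x ^ 2) u) : Commute x u := by
  obtain ⟨k, hk⟩ := hodd
  have hx : (x ^ 2) ^ (k + 1) = x := by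
    rw [← pow_mul, show 2 * (k + 1) = orderOf x + 1 by omega, pow_succ, pow_orderOf_eq_one, one_mul]
  exact hx ▸ h.pow_left (k + 1)

/-- An element of odd order centralizing an involution of a four-group centralizes the four-group,
when it normalizes it. -/
theorem commute_four {V : Subgroup G} (hV : Nat.card V = 4)
    {t x : G} (htV : t ∈ V) (ht : orderOf t = 2) (hn : x ∈ normalizer (V : Set G))
    (hodd : Odd (orderOf x)) (hxt : Commute x t) {y : G} (hy : y ∈ V) : Commute x y := by
  classical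
  by_cases hyt : y ∈ zpowers t
  · obtain ⟨k, rfl⟩ := mem_zpowers_iff.1 hyt
    exact hxt.zpow_right k
  haveI := Fintype.ofFinite V
  have hmemV : ∀ z, z ∈ V → x * z * x⁻¹ ∈ V := fun z => (mem_normalizer_iff.1 hn z).1
  refine commute_of_sq hodd ?_
  -- the two elements of `V` outside `⟨t⟩` are permuted by `x`
  let W := {v : V // (v : G) ≠ 1 ∧ (v : G) ≠ t}
  have hW : Nat.card W ≤ 2 := by
    have h1 : Fintype.card {v : V // (v : G) = 1 ∨ (v : G) = t} = 2 := by
      refine (Fintype.card_of_subtype ({⟨1, one_mem V⟩, ⟨t, htV⟩} : Finset V) fun v => ?_).trans ?_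
      · simp only [Finset.mem_insert, Finset.mem_singleton]
        exact ⟨fun h => h.imp (fun e => congrArg Subtype.val e) (fun e => congrArg Subtype.val e),
          fun h => h.imp (fun e => Subtype.ext e) (fun e => Subtype.ext e)⟩
      · refine Finset.card_pair fun e => ne_one ht (congrArg Subtype.val e).symm
    have h2 := Fintype.card_subtype_compl (fun v : V => (v : G) = 1 ∨ (v : G) = t)
    rw [h1, ← Nat.card_eq_fintype_card (α := V), hV] at h2
    rw [Nat.card_eq_fintype_card]
    refine (Fintype.card_congr (Equiv.subtypeEquivRight fun v => ?_)).trans h2 |>.le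
    push Not
    rfl
  have hmap : ∀ v : W, x * v.1.1 * x⁻¹ ≠ 1 ∧ x * v.1.1 * x⁻¹ ≠ t := fun v => by
    refine ⟨fun e => v.2.1 (conj_eq_one_iff.1 e), fun e => v.2.2 ?_⟩
    rw [mul_inv_eq_iff_eq_mul, ← hxt.eq, mul_right_inj] at e
    exact e
  let σ : W → W := fun v => ⟨⟨_, hmemV _ v.1.2⟩, hmap v⟩
  have hy1 : y ≠ 1 := fun e => hyt (e ▸ one_mem _)
  have hyt' : y ≠ t := fun e => hyt (e ▸ mem_zpowers t)
  let w : W := ⟨⟨y, hy⟩, hy1, hyt'⟩
  have hinj : Function.Injective σ := fun a b e => by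
    have e1 := congrArg (fun v : W => v.1.1) e
    simp only [σ, mul_left_inj, mul_right_inj] at e1
    exact Subtype.ext (Subtype.ext e1)
  have hσ : σ (σ w) = w := by
    by_contra hne
    have h1 : σ w ≠ w := fun e => hne (by rw [e, e])
    have h3 : σ (σ w) ≠ σ w := fun e => h1 (hinj e)
    have hle : 3 ≤ Nat.card W := by
      haveI := Fintype.ofFinite W
      rw [Nat.card_eq_fintype_card]
      refine le_of_eq_of_le ?_ (Finset.card_le_univ ({w, σ w, σ (σ w)} : Finset W))
      rw [Finset.card_insert_of_notMem, Finset.card_pair h3.symm]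
      simp only [Finset.mem_insert, Finset.mem_singleton]
      push Not
      exact ⟨h1.symm, (Ne.symm hne)⟩
    omega
  have e2 := congrArg (fun v : W => v.1.1) hσ
  simp only [σ, w] at e2
  show x ^ 2 * y = y * x ^ 2
  conv_rhs => rw [← e2]
  rw [pow_two]
  group

theorem not_eight {G : Type u} [Group G] [Finite G] (S : Sylow 2 G)
    (hS : Nat.card (S : Subgroup G) = 4) : ¬ 8 ∣ Nat.card G := by
  haveI : Fact (Nat.Prime 2) := ⟨Nat.prime_two⟩
  intro h
  rw [← (S : Subgroup G).card_mul_index, hS] at h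
  obtain ⟨k, hk⟩ := h
  exact S.not_dvd_index ⟨k, by omega⟩

/-- The nonsolvable case with a four-group as Sylow subgroup. -/
theorem EqSub.four_nonsolvable (h : EqSub G) (hO : Cfsg.oddCore G = ⊥) (S : Sylow 2 G)
    (hc : ∀ a ∈ (S : Subgroup G), ∀ b ∈ (S : Subgroup G), a * b = b * a)
    (he : ∀ a ∈ (S : Subgroup G), a ^ 2 = 1) (hS : Nat.card (S : Subgroup G) = 4)
    (eS : (S : Subgroup G) ≃* DihedralGroup 2) (hns : ¬ Group.IsSolvable G) :
    Nonempty (G ≃* alternatingGroup (Fin 5)) := by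
  haveI : Fact (Nat.Prime 2) := ⟨Nat.prime_two⟩
  have h8 := not_eight S hS
  obtain ⟨L, hLn, hCL, -, -, ⟨F, hF, hfin, hodd, h3, ⟨e⟩⟩ | ⟨⟨e⟩⟩⟩ :=
    GW.Cons.full_gw GW.perfectGW hO S le_rfl eS hns
  swap
  · refine absurd ((Dvd.intro 315 ?_).trans L.card_subgroup_dvd_card) h8
    rw [Nat.card_congr e.toEquiv, nat_card_alternatingGroup, Nat.card_fin]
    norm_num [Nat.factorial]
  haveI := hLn
  -- an involution and its centralizer
  have h8L : ¬ 8 ∣ Nat.card L := fun h' => h8 (h'.trans L.card_subgroup_dvd_card)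
  have hcardL : 2 * Nat.card L = Fintype.card F * ((Fintype.card F - 1) * (Fintype.card F + 1)) := by
    rw [Nat.card_congr e.toEquiv, ← PSLOrderSpectrum.card_psl_two]
    congr 1
    exact (Nat.gcd_eq_left (Nat.dvd_of_mod_eq_zero (by rcases hodd with ⟨k, hk⟩; omega))).symm
  have h2L : 2 ∣ Nat.card L := by
    obtain ⟨k, hk⟩ := hodd
    have hdd : 4 ∣ (Fintype.card F - 1) * (Fintype.card F + 1) :=
      ⟨k * (k + 1), by rw [hk, Nat.add_sub_cancel]; ring⟩
    have h4 : 4 ∣ 2 * Nat.card L := hcardL ▸ hdd.mul_left _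
    omega
  obtain ⟨l, hl⟩ := exists_prime_orderOf_dvd_card' (G := L) 2 h2L
  have hel : orderOf (e l) = 2 := by rw [MulEquiv.orderOf_eq, hl]
  obtain ⟨δ, hδ, hcc, h4, hodd'⟩ := GW.KleinPSL.centralizers hodd hel
  set C := centralizer ({e l} : Set (Matrix.ProjectiveSpecialLinearGroup (Fin 2) F)) with hC
  have hC4 : Nat.card C = 4 := by
    have h4' : 4 ∣ Nat.card C := by
      rw [← Int.natCast_dvd_natCast, hcc]; exact_mod_cast h4
    have hC8 : ¬ 8 ∣ Nat.card C := fun h' => h8L (by
      rw [Nat.card_congr e.toEquiv]; exact h'.trans C.card_subgroup_dvd_card)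
    obtain ⟨m, hm⟩ := h4'
    by_contra hne
    obtain ⟨r, hr, hrm⟩ := Nat.exists_prime_and_dvd (n := m) (by omega)
    have hr2 : r ≠ 2 := by
      rintro rfl
      obtain ⟨j, rfl⟩ := hrm
      exact hC8 ⟨j, by omega⟩
    haveI : Fact r.Prime := ⟨hr⟩
    obtain ⟨c, hc'⟩ := exists_prime_orderOf_dvd_card' (G := C) r (hm ▸ hrm.mul_left 4)
    set x : Matrix.ProjectiveSpecialLinearGroup (Fin 2) F := c.1 with hx
    have hxo : orderOf x = r := by rw [hx, Subgroup.orderOf_coe, hc']
    have hxodd : Odd (orderOf x) := hxo ▸ hr.odd_of_ne_two hr2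
    have hxe : Commute x (e l) := mem_centralizer_singleton_iff.1 c.2
    -- transport into `G`
    set xg : G := ((e.symm x : L) : G) with hxg
    set tg : G := (l : G) with htg
    have htg2 : orderOf tg = 2 := by rw [htg, Subgroup.orderOf_coe, hl]
    have hxgo : orderOf xg = orderOf x := by rw [hxg, Subgroup.orderOf_coe, MulEquiv.orderOf_eq]
    have hxt : Commute xg tg := by
      have h1 : Commute (e.symm x) l := by simpa using hxe.map e.symm.toMonoidHom
      exact h1.map L.subtype
    have htp : IsPGroup 2 (zpowers tg) :=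
      IsPGroup.of_card (n := 1) (by rw [Nat.card_zpowers, htg2, pow_one])
    obtain ⟨T, hT⟩ := htp.exists_le_sylow
    obtain ⟨g, rfl⟩ := MulAction.exists_smul_eq G S T
    have hcT : ∀ a ∈ ((g • S : Sylow 2 G) : Subgroup G), ∀ b ∈ ((g • S : Sylow 2 G) : Subgroup G),
        a * b = b * a := by
      intro a ha b hb
      have := hc _ (Transfer.Fusion.mem_smul_sylow_iff.1 ha) _ (Transfer.Fusion.mem_smul_sylow_iff.1 hb)
      calc a * b = g * ((g⁻¹ * a * g) * (g⁻¹ * b * g)) * g⁻¹ := by group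
        _ = g * ((g⁻¹ * b * g) * (g⁻¹ * a * g)) * g⁻¹ := by rw [this]
        _ = b * a := by group
    have heT : ∀ a ∈ ((g • S : Sylow 2 G) : Subgroup G), a ^ 2 = 1 := by
      intro a ha
      have h2 := he _ (Transfer.Fusion.mem_smul_sylow_iff.1 ha)
      calc a ^ 2 = g * ((g⁻¹ * a * g) ^ 2) * g⁻¹ := by rw [pow_two, pow_two]; group
        _ = 1 := by rw [h2, mul_one, mul_inv_cancel]
    have htT : tg ∈ ((g • S : Sylow 2 G) : Subgroup G) := hT (mem_zpowers tg)
    have hTcard : Nat.card ((g • S : Sylow 2 G) : Subgroup G) = 4 := by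
      rw [← hS]; exact Nat.card_congr ((g • S).equiv S).toEquiv
    have hn : xg ∈ normalizer (((g • S : Sylow 2 G) : Subgroup G) : Set G) :=
      h.centralizer_le_normalizer _ hcT heT htT htg2 (mem_centralizer_singleton_iff.2 hxt.eq)
    -- the Sylow subgroup lies in `L`
    have hindex : Odd L.index := by
      refine Nat.odd_iff.2 (Nat.two_dvd_ne_zero.1 fun h' => h8 ?_)
      rw [← L.card_mul_index]
      have h4L : 4 ∣ Nat.card L := by
        rw [Nat.card_congr e.toEquiv]
        exact (Dvd.intro m hm.symm).trans C.card_subgroup_dvd_card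
      exact Nat.mul_dvd_mul h4L h' 
    have hTL : ((g • S : Sylow 2 G) : Subgroup G) ≤ L := by
      intro a ha
      rw [← QuotientGroup.eq_one_iff]
      have hd : orderOf (a : G ⧸ L) ∣ Nat.gcd 2 L.index := by
        refine Nat.dvd_gcd (orderOf_dvd_of_pow_eq_one ?_) ?_
        · rw [← QuotientGroup.mk_pow, heT a ha, QuotientGroup.mk_one]
        · rw [Subgroup.index_eq_card]; exact orderOf_dvd_natCard _
      rw [Nat.coprime_two_left.2 hindex, Nat.dvd_one, orderOf_eq_one_iff] at hd
      exact hd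
    -- it centralizes `x`
    let V : Subgroup (Matrix.ProjectiveSpecialLinearGroup (Fin 2) F) :=
      (((g • S : Sylow 2 G) : Subgroup G).subgroupOf L).map e.toMonoidHom
    have hVcard : Nat.card V = 4 := by
      rw [card_map_of_injective e.injective, Nat.card_congr (subgroupOfEquivOfLe hTL).toEquiv, hTcard]
    have hVx : V ≤ centralizer ({x} : Set (Matrix.ProjectiveSpecialLinearGroup (Fin 2) F)) := by
      rintro _ ⟨v, hv, rfl⟩
      rw [mem_centralizer_singleton_iff]
      have hcom := commute_four hTcard htT htg2 hn (hxgo ▸ hxodd) hxt hv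
      have : e.symm x * v = v * e.symm x := Subtype.ext hcom.eq
      have := congrArg e this
      simpa using this.symm
    have hev : Even (Nat.card (centralizer ({x} : Set (Matrix.ProjectiveSpecialLinearGroup (Fin 2) F)))) :=
      even_iff_two_dvd.2 ((show 2 ∣ 4 by norm_num).trans (hVcard ▸ card_dvd_of_le hVx))
    have hx1 : x ≠ 1 := fun e' => by rw [e', orderOf_one] at hxo; exact hr.one_lt.ne hxo
    have h2c := hodd' x hx1 hxodd hev
    rw [← hcc] at h2c
    have h4x : 4 ∣ Nat.card (centralizer ({x} : Set (Matrix.ProjectiveSpecialLinearGroup (Fin 2) F))) :=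
      hVcard ▸ card_dvd_of_le hVx
    apply hC8
    obtain ⟨j, hj⟩ := h4x
    exact ⟨j, by omega⟩
  have hq : Fintype.card F = 5 := by rcases hδ with rfl | rfl <;> omega
  -- the automorphism group
  have hLcard : Nat.card L = 60 := by rw [hq] at hcardL; omega
  haveI : Fact (Nat.Prime 5) := ⟨Nat.prime_five⟩
  have hAut := S0813.result (F := F) 5 1 le_rfl (by rw [hq, pow_one]) 2 le_rfl (by norm_num)
  rw [Classical.Linear.natCard_PGL, Classical.GL2.natCard_SL_two, hq] at hAut
  have hd : Nat.card G ∣ 120 := by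
    have h1 := card_dvd_of_injective _ (GW.Cons.conjNormal_injective hCL)
    rwa [Nat.card_congr (MulAut.congr e).toEquiv, hAut] at h1
  have h60 : 60 ∣ Nat.card G := hLcard ▸ L.card_subgroup_dvd_card
  have hG : Nat.card G = 60 := by
    obtain ⟨j, hj⟩ := h60
    rw [hj] at hd
    have hj2 : j ∣ 2 := Nat.dvd_of_mul_dvd_mul_left (by norm_num : 0 < 60) hd
    rcases (Nat.dvd_prime Nat.prime_two).1 hj2 with rfl | rfl
    · omega
    · exact absurd ⟨15, by omega⟩ h8
  have htop : L = ⊤ := L.eq_top_of_card_eq (hLcard.trans hG.symm)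
  subst htop
  obtain ⟨e5⟩ := S0253.result hq
  exact ⟨(Subgroup.topEquiv.symm.trans e).trans e5⟩

/-- A four-group as Sylow subgroup. -/
theorem EqSub.four_case (h : EqSub G) (hO : Cfsg.oddCore G = ⊥) (S : Sylow 2 G)
    (hc : ∀ a ∈ (S : Subgroup G), ∀ b ∈ (S : Subgroup G), a * b = b * a)
    (he : ∀ a ∈ (S : Subgroup G), a ^ 2 = 1) (hS : Nat.card (S : Subgroup G) = 4) :
    Nonempty (G ≃* alternatingGroup (Fin 4)) ∨ Nonempty (G ≃* alternatingGroup (Fin 5)) := by
  haveI : Fact (Nat.Prime 2) := ⟨Nat.prime_two⟩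
  haveI : Nontrivial (S : Subgroup G) := Finite.one_lt_card_iff_nontrivial.1 (by omega)
  haveI : IsKleinFour (S : Subgroup G) := ⟨hS, by
    refine ((Nat.dvd_prime Nat.prime_two).1 (Monoid.exponent_dvd_of_forall_pow_eq_one fun g =>
      Subtype.ext (he _ g.2))).resolve_left fun e1 => ?_
    exact not_subsingleton (S : Subgroup G) (Monoid.exp_eq_one_iff.1 e1)⟩
  obtain ⟨eS⟩ : Nonempty ((S : Subgroup G) ≃* DihedralGroup 2) := IsKleinFour.nonempty_mulEquiv
  have hne : (S : Subgroup G) ≠ ⊥ := fun e' => by rw [e', Subgroup.card_bot] at hS; omega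
  have hnt : (S : Subgroup G) ≠ ⊤ := by
    intro htop
    obtain ⟨t, ht, h2⟩ := exists_involution hne he
    obtain ⟨u, hu, hut⟩ : ∃ u ∈ (S : Subgroup G), u ∉ zpowers t := by
      by_contra hh
      push Not at hh
      have := card_le_of_le (show (S : Subgroup G) ≤ zpowers t from hh)
      rw [Nat.card_zpowers, h2, hS] at this
      omega
    have hu2 : orderOf u = 2 := orderOf_two_iff.2
      ⟨by rw [← pow_two]; exact he u hu, fun e' => hut (e' ▸ one_mem _)⟩
    obtain ⟨n, -, hn⟩ := h.transitive S hc ht hu h2 hu2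
    refine hut ?_
    rw [← hn, hc n (htop ▸ mem_top n) t ht, mul_inv_cancel_right]
    exact mem_zpowers t
  by_cases hs : Group.IsSolvable G
  · haveI := hs
    rcases GW.Cons.TwoClasses.solvable_case hO S le_rfl eS hnt with h4 | ⟨⟨e⟩⟩
    · exact Or.inl h4
    · refine absurd ⟨3, ?_⟩ (not_eight S hS)
      rw [Nat.card_congr e.toEquiv, Nat.card_perm, Nat.card_fin]
      rfl
  · exact Or.inr (h.four_nonsolvable hO S hc he hS eS hs)

/-- A quaternion Sylow subgroup of order eight. -/
theorem EqSub.quaternion_case (h : EqSub G) (hO : Cfsg.oddCore G = ⊥) (S : Sylow 2 G)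
    (e : (S : Subgroup G) ≃* QuaternionGroup 2) :
    Nonempty (G ≃* Matrix.SpecialLinearGroup (Fin 2) (ZMod 3)) ∨
      Nonempty (G ≃* Matrix.SpecialLinearGroup (Fin 2) (ZMod 5)) := by
  haveI : Fact (Nat.Prime 2) := ⟨Nat.prime_two⟩
  haveI : Fact (Nat.Prime 5) := ⟨Nat.prime_five⟩
  have h1 : Cfsg.PRankLE 2 1 G := GW.Cons.prankLE_of_sylow S
    (GW.Cons.prankLE_of_injective (f := e.toMonoidHom) e.injective (GW.Cons.prankLE_quaternion _))
  have hScard : Nat.card (S : Subgroup G) = 8 := by
    rw [Nat.card_congr e.toEquiv, Nat.card_eq_fintype_card, QuaternionGroup.card]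
  have h2 : Even (Nat.card G) :=
    even_iff_two_dvd.2 ((show 2 ∣ 8 by norm_num).trans (hScard ▸ (S : Subgroup G).card_subgroup_dvd_card))
  obtain ⟨z, hz, hzc, huniq⟩ := GW.Cons.exists_center_involution h1 h2 hO
  haveI : (zpowers z).Normal := ⟨fun x hx g => by
    rw [mem_center_iff.1 (zpowers_le.2 hzc hx) g, mul_inv_cancel_right]; exact hx⟩
  have hO' := GW.Cons.oddCore_quotient_eq_bot hO hz hzc
  obtain ⟨T, ⟨eT⟩⟩ := GW.Cons.sylow_quotient_dihedral S (m := 1) le_rfl
    (e.trans (MulEquiv.refl _)) hz hzc huniq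
  have hT4 : Nat.card (T : Subgroup (G ⧸ zpowers z)) = 4 := by
    rw [Nat.card_congr eT.toEquiv, DihedralGroup.nat_card]; rfl
  have hd : ∀ a b : DihedralGroup (2 ^ 1), a * b = b * a ∧ a * a = 1 := by decide
  have hcT : ∀ a ∈ (T : Subgroup (G ⧸ zpowers z)), ∀ b ∈ (T : Subgroup (G ⧸ zpowers z)),
      a * b = b * a := fun a ha b hb => congrArg Subtype.val (eT.injective
        (a₁ := ⟨a, ha⟩ * ⟨b, hb⟩) (a₂ := ⟨b, hb⟩ * ⟨a, ha⟩) (by rw [map_mul, map_mul]; exact (hd _ _).1))
  have heT : ∀ a ∈ (T : Subgroup (G ⧸ zpowers z)), a ^ 2 = 1 := fun a ha => congrArg Subtype.val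
    (eT.injective (a₁ := ⟨a, ha⟩ ^ 2) (a₂ := 1) (by rw [map_pow, map_one, pow_two]; exact (hd _ 1).2))
  have hcardG : Nat.card G = Nat.card (G ⧸ zpowers z) * 2 := by
    rw [Subgroup.card_eq_card_quotient_mul_card_subgroup (zpowers z), Nat.card_zpowers, hz]
  rcases (h.quotient (zpowers z)).four_case hO' T hcT heT hT4 with ⟨⟨e4⟩⟩ | ⟨⟨e5⟩⟩
  · left
    have hG : Nat.card G = 24 := by
      rw [hcardG, Nat.card_congr e4.toEquiv, Nat.card_eq_fintype_card]
      decide
    rcases PLocal.QuaternionSection.complement_or_section S 1 ⟨e⟩ with ⟨P, N, hN, hNP⟩ | ⟨H, K, hK, ⟨eH⟩⟩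
    · exfalso
      have hNodd : Odd (Nat.card N) := by
        rw [← hNP.index_eq_card, ← Nat.not_even_iff_odd, even_iff_two_dvd]
        exact P.not_dvd_index
      rw [le_bot_iff.1 (hO ▸ Cores.le_oddCore hNodd : N ≤ ⊥), Subgroup.isComplement'_bot_left] at hNP
      have h8 : Nat.card (P : Subgroup G) = 8 := hScard ▸ Nat.card_congr (P.equiv S).toEquiv
      rw [hNP, Subgroup.card_top, hG] at h8
      omega
    · have hcH := Subgroup.card_eq_card_quotient_mul_card_subgroup (K.subgroupOf H)
      rw [Nat.card_congr eH.toEquiv, S2427.result.1] at hcH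
      have hle := Nat.le_of_dvd Nat.card_pos H.card_subgroup_dvd_card
      have hK1 : Nat.card (K.subgroupOf H) = 1 := by
        have := Nat.card_pos (α := K.subgroupOf H)
        rw [hG] at hle
        omega
      have hH : H = ⊤ := H.eq_top_of_card_eq (by rw [hcH, hK1, hG])
      subst hH
      exact ⟨(((QuotientGroup.quotientBot).symm.trans
        (QuotientGroup.quotientMulEquivOfEq (Subgroup.card_eq_one.1 hK1).symm)).trans eH |>
          (Subgroup.topEquiv (G := G)).symm.trans)⟩
  · right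
    obtain ⟨eP⟩ := S0253.result (F := ZMod 5) (ZMod.card 5)
    set eQ : G ⧸ zpowers z ≃* Matrix.ProjectiveSpecialLinearGroup (Fin 2) (ZMod 5) := e5.trans eP.symm
    have hsl := GW.Cons.sl_double (ZMod 5) (by rw [ZMod.card]; decide) (by rw [ZMod.card]; norm_num)
    set ξ : G →* Matrix.ProjectiveSpecialLinearGroup (Fin 2) (ZMod 5) :=
      eQ.toMonoidHom.comp (QuotientGroup.mk' (zpowers z)) with hξ
    have hξs : Function.Surjective ξ := eQ.surjective.comp (QuotientGroup.mk'_surjective _)
    have hker : ξ.ker = zpowers z := by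
      ext x
      simp [hξ]
    have hPperf : commutator (Matrix.ProjectiveSpecialLinearGroup (Fin 2) (ZMod 5)) = ⊤ := by
      rw [_root_.commutator_def, ← Subgroup.map_top_of_surjective _ hsl.surj, ← Subgroup.map_commutator,
        ← _root_.commutator_def, hsl.perfect]
    have hperf : commutator G = ⊤ := by
      have hmap : (commutator G).map ξ = ⊤ := by
        rw [_root_.commutator_def, Subgroup.map_commutator, Subgroup.map_top_of_surjective _ hξs,
          ← _root_.commutator_def, hPperf]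
      have h2D : 2 ∣ Nat.card (commutator G) := by
        refine dvd_trans ?_ (Subgroup.card_map_dvd (commutator G) ξ)
        rw [hmap, Subgroup.card_top, Nat.card_congr eP.toEquiv, nat_card_alternatingGroup, Nat.card_fin]
        norm_num [Nat.factorial]
      obtain ⟨y, hy⟩ := exists_prime_orderOf_dvd_card' (G := commutator G) 2 h2D
      have hyz : (y : G) = z := huniq _ (by rw [Subgroup.orderOf_coe, hy])
      have hzD : zpowers z ≤ commutator G := zpowers_le.2 (hyz ▸ y.2)
      rw [← Subgroup.comap_map_eq_self (hker.le.trans hzD), hmap, Subgroup.comap_top]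
    have h₁ : GW.Cons.IsDouble ξ := ⟨hperf, hξs, hker.le.trans (zpowers_le.2 hzc),
      by rw [hker, Nat.card_zpowers, hz]⟩
    let T' : Sylow 2 (Matrix.ProjectiveSpecialLinearGroup (Fin 2) (ZMod 5)) :=
      T.mapSurjective (f := eQ.toMonoidHom) eQ.surjective
    exact GW.Cons.double_unique h₁ hsl T'
      (((T : Subgroup (G ⧸ zpowers z)).equivMapOfInjective eQ.toMonoidHom eQ.injective).symm.trans eT)

end Cfsg.Agent.EqSubConj
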