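import Cfsg.Agent.Lib.EqSubConj.Basic
import Cfsg.Agent.Lib.Involutions.EqualOrderConj.Frame
import Cfsg.Agent.S4025
import Cfsg.Agent.S0205

/-!
# The normalizer of an elementary abelian Sylow `2`-subgroup of order at least eight

The automizer of the Sylow subgroup is read off from S4025.
-/

set_option autoImplicit false
set_option linter.style.haveILetI false

namespace Cfsg.Agent.EqSubConj

open Subgroup

universe u

/-- The centralizer of a normal abelian Sylow `2`-subgroup is the product with the odd core. -/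
theorem card_centralizer_normal {M : Type u} [Group M] [Finite M] (P : Sylow 2 M)
    [(P : Subgroup M).Normal] (hc : ∀ a ∈ (P : Subgroup M), ∀ b ∈ (P : Subgroup M), a * b = b * a) :
    Nat.card ↥(Subgroup.centralizer ((P : Subgroup M) : Set M)) =
      Nat.card (P : Subgroup M) * Nat.card ↥(Cfsg.oddCore M) := by
  haveI : Fact (Nat.Prime 2) := ⟨Nat.prime_two⟩
  set C := Subgroup.centralizer ((P : Subgroup M) : Set M) with hC
  haveI : C.Normal := Subgroup.normal_centralizer
  have hPC : (P : Subgroup M) ≤ C := fun a ha => mem_centralizer_iff.2 fun b hb => hc b hb a ha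
  have hodd : Odd (Nat.card ↥(Cfsg.oddCore M)) := Cores.oddCore_odd
  obtain ⟨k, hk⟩ := P.2.exists_card_eq
  have hcop : (Nat.card (P : Subgroup M)).Coprime (Nat.card ↥(Cfsg.oddCore M)) := by
    rw [hk]; exact Nat.Coprime.pow_left k (Nat.coprime_two_left.2 hodd)
  have hOC : Cfsg.oddCore M ≤ C := fun x hx => mem_centralizer_iff.2 fun b hb =>
    (Subgroup.commute_of_normal_of_disjoint _ _ inferInstance inferInstance
      (disjoint_of_coprime_natCard hcop) b x hb hx).eq
  let PC : Sylow 2 C := P.subtype hPC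
  have hcen : normalizer ((PC : Subgroup C) : Set C) ≤ centralizer ((PC : Subgroup C) : Set C) :=
    fun x _ => mem_centralizer_iff.2 fun y hy => Subtype.ext (mem_centralizer_iff.1 x.2 (y : M) hy)
  have hcompl := MonoidHom.ker_transferSylow_isComplement' PC hcen
  set K := (MonoidHom.transferSylow PC hcen).ker with hK
  have hKodd : Odd (Nat.card K) := Nat.odd_iff.2 (Nat.two_dvd_ne_zero.1 (by
    rw [← hcompl.index_eq_card]
    exact PC.not_dvd_index))
  have hKO : Nat.card K ∣ Nat.card ↥(Cfsg.oddCore M) := by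
    have h1 : K ≤ Cfsg.oddCore C := Cores.le_oddCore hKodd
    have h2 : (Cfsg.oddCore C).map C.subtype ≤ Cfsg.oddCore M := by
      haveI : ((Cfsg.oddCore C).map C.subtype).Normal := ConjAct.normal_of_characteristic_of_normal
      exact Cores.le_oddCore (by
        rw [card_map_of_injective C.subtype_injective]; exact Cores.oddCore_odd)
    refine (card_dvd_of_le h1).trans ?_
    rw [← card_map_of_injective (f := C.subtype) C.subtype_injective]
    exact card_dvd_of_le h2
  have hKC : Nat.card K * Nat.card (P : Subgroup M) = Nat.card C := by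
    rw [← hcompl.card_mul_card, Nat.card_congr (subgroupOfEquivOfLe hPC).toEquiv.symm]
    rfl
  refine Nat.dvd_antisymm ?_ (hcop.mul_dvd_of_dvd_of_dvd (card_dvd_of_le hPC) (card_dvd_of_le hOC))
  rw [← hKC, mul_comm (Nat.card K)]
  exact Nat.mul_dvd_mul_left _ hKO

variable {G : Type u} [Group G] [Finite G]

/-- The automizer of an elementary abelian Sylow `2`-subgroup of order at least eight. -/
theorem model_two (h : EqualOrderConj.EqConj 2 G) (S : Sylow 2 G)
    (hc : ∀ a ∈ (S : Subgroup G), ∀ b ∈ (S : Subgroup G), a * b = b * a)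
    (he : ∀ a ∈ (S : Subgroup G), a ^ 2 = 1) {n : ℕ} (hn : 3 ≤ n)
    (hcard : Nat.card (S : Subgroup G) = 2 ^ n) :
    (n = 3 ∨ n = 5) ∧ ∃ e : ℕ, e < 2 ^ n - 1 ∧
      Nat.card ↥(Subgroup.centralizer ((S : Subgroup G) : Set G)) * ((2 ^ n - 1) * e) =
        Nat.card ↥(normalizer ((S : Subgroup G) : Set G)) ∧
      (n = 5 → e = 5) ∧
      ((n = 3 ∧ Nonempty (↥(normalizer ((S : Subgroup G) : Set G)) ⧸
          Cfsg.pPrimeCore 2 ↥(normalizer ((S : Subgroup G) : Set G)) ≃*
            Cfsg.semiaffineGroup (GaloisField 2 3))) ∨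
        (n = 3 ∧ Nonempty (↥(normalizer ((S : Subgroup G) : Set G)) ⧸
          Cfsg.pPrimeCore 2 ↥(normalizer ((S : Subgroup G) : Set G)) ≃*
            Cfsg.affineGroup (GaloisField 2 3))) ∨
        (n = 5 ∧ Nonempty (↥(normalizer ((S : Subgroup G) : Set G)) ⧸
          Cfsg.pPrimeCore 2 ↥(normalizer ((S : Subgroup G) : Set G)) ≃*
            Cfsg.semiaffineGroup (GaloisField 2 5)))) := by
  haveI : Fact (Nat.Prime 2) := ⟨Nat.prime_two⟩
  set N := normalizer ((S : Subgroup G) : Set G) with hN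
  have hSN : (S : Subgroup G) ≤ N := le_normalizer
  let P : Sylow 2 N := S.subtype hSN
  haveI : ((S : Subgroup G).subgroupOf N).Normal := normal_in_normalizer
  have hsolvN : Group.IsSolvable N := by
    haveI : IsMulCommutative ((S : Subgroup G).subgroupOf N) :=
      ⟨⟨fun a b => Subtype.ext (Subtype.ext (hc _ a.2 _ b.2))⟩⟩
    haveI : Group.IsSolvable ((S : Subgroup G).subgroupOf N) :=
      Group.isSolvable_of_comm fun a b => mul_comm' a b
    haveI : Group.IsSolvable (N ⧸ (S : Subgroup G).subgroupOf N) := S0205.result (by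
      refine Nat.odd_iff.2 (Nat.two_dvd_ne_zero.1 ?_)
      rw [← Subgroup.index_eq_card]
      exact P.not_dvd_index)
    exact Group.isSolvable_of_ker_le_range ((S : Subgroup G).subgroupOf N).subtype
      (QuotientGroup.mk' ((S : Subgroup G).subgroupOf N))
      (by rw [QuotientGroup.ker_mk', Subgroup.range_subtype])
  have hsolv : Group.IsSolvable (N ⧸ Cfsg.pPrimeCore 2 N) :=
    Group.isSolvable_of_surjective (QuotientGroup.mk'_surjective _)
  have hel : Cfsg.IsElementaryAbelian 2 (S : Subgroup G) :=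
    ⟨⟨⟨fun a b => Subtype.ext (hc _ a.2 _ b.2)⟩⟩, he⟩
  have hres := S4025.result h S n hn hel hcard N hN hsolv
  have hcC : Nat.card ↥(Subgroup.centralizer ((S : Subgroup G) : Set G)) =
      2 ^ n * Nat.card ↥(Cfsg.oddCore N) := by
    have h1 : (Subgroup.centralizer (((S : Subgroup G).subgroupOf N : Subgroup N) : Set N)) =
        (Subgroup.centralizer ((S : Subgroup G) : Set G)).subgroupOf N := by
      ext x
      simp only [mem_subgroupOf, mem_centralizer_iff]
      exact ⟨fun hx y hy => congrArg Subtype.val (hx ⟨y, hSN hy⟩ hy),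
        fun hx y hy => Subtype.ext (hx _ hy)⟩
    haveI : (P : Subgroup N).Normal := ‹((S : Subgroup G).subgroupOf N).Normal›
    have h2 := card_centralizer_normal P fun a ha b hb => Subtype.ext (hc _ ha _ hb)
    rw [show ((P : Subgroup N) : Set N) = (((S : Subgroup G).subgroupOf N : Subgroup N) : Set N) from rfl,
      h1, Nat.card_congr (subgroupOfEquivOfLe (Subgroup.centralizer_le_normalizer _)).toEquiv] at h2
    rw [h2, ← hcard]
    congr 1
    exact Nat.card_congr (subgroupOfEquivOfLe hSN).toEquiv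
  have hcN : Nat.card (N ⧸ Cfsg.pPrimeCore 2 N) * Nat.card ↥(Cfsg.oddCore N) = Nat.card N :=
    (Subgroup.card_eq_card_quotient_mul_card_subgroup _).symm
  have key : ∀ e : ℕ, Nat.card (N ⧸ Cfsg.pPrimeCore 2 N) = (2 ^ n - 1) * 2 ^ n * e →
      Nat.card ↥(Subgroup.centralizer ((S : Subgroup G) : Set G)) * ((2 ^ n - 1) * e) = Nat.card N := by
    intro e h1
    rw [hcC, ← hcN, h1]
    ring
  have hF : ∀ k, k ≠ 0 → Nat.card (GaloisField 2 k) = 2 ^ k := fun k hk => GaloisField.card 2 k hk
  have hSA : ∀ k, k ≠ 0 → Nat.card (Cfsg.semiaffineGroup (GaloisField 2 k)) = (2 ^ k - 1) * 2 ^ k * k := by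
    intro k hk
    rw [Involutions.EqualOrderConj.Frame.natCard_semiaffine, hF k hk,
      Involutions.EqualOrderConj.Count.card_ringAut (hF k hk) hk]
  rcases hres with ⟨rfl, -, h3⟩ | ⟨rfl, -, ⟨e5⟩⟩
  · refine ⟨Or.inl rfl, ?_⟩
    rcases h3 rfl with ⟨⟨e3⟩⟩ | ⟨⟨e1⟩⟩
    · exact ⟨3, by norm_num, key 3 (by rw [Nat.card_congr e3.toEquiv, hSA 3 (by norm_num)]),
        by norm_num, Or.inl ⟨rfl, ⟨e3⟩⟩⟩
    · exact ⟨1, by norm_num, key 1 (by
        rw [Nat.card_congr e1.toEquiv, Involutions.EqualOrderConj.Frame.natCard_affine,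
          hF 3 (by norm_num), mul_one]), by norm_num, Or.inr (Or.inl ⟨rfl, ⟨e1⟩⟩)⟩
  · exact ⟨Or.inr rfl, 5, by norm_num, key 5 (by rw [Nat.card_congr e5.toEquiv, hSA 5 (by norm_num)]),
      fun _ => rfl, Or.inr (Or.inr ⟨rfl, ⟨e5⟩⟩)⟩

/-- The same for groups in which subgroups of equal order are conjugate. -/
theorem EqSub.model (h : EqSub G) (S : Sylow 2 G)
    (hc : ∀ a ∈ (S : Subgroup G), ∀ b ∈ (S : Subgroup G), a * b = b * a)
    (he : ∀ a ∈ (S : Subgroup G), a ^ 2 = 1) {n : ℕ} (hn : 3 ≤ n)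
    (hcard : Nat.card (S : Subgroup G) = 2 ^ n) :
    (n = 3 ∨ n = 5) ∧ ∃ e : ℕ, e < 2 ^ n - 1 ∧
      Nat.card ↥(Subgroup.centralizer ((S : Subgroup G) : Set G)) * ((2 ^ n - 1) * e) =
        Nat.card ↥(normalizer ((S : Subgroup G) : Set G)) ∧
      (n = 5 → e = 5) ∧
      ((n = 3 ∧ Nonempty (↥(normalizer ((S : Subgroup G) : Set G)) ⧸
          Cfsg.pPrimeCore 2 ↥(normalizer ((S : Subgroup G) : Set G)) ≃*
            Cfsg.semiaffineGroup (GaloisField 2 3))) ∨
        (n = 3 ∧ Nonempty (↥(normalizer ((S : Subgroup G) : Set G)) ⧸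
          Cfsg.pPrimeCore 2 ↥(normalizer ((S : Subgroup G) : Set G)) ≃*
            Cfsg.affineGroup (GaloisField 2 3))) ∨
        (n = 5 ∧ Nonempty (↥(normalizer ((S : Subgroup G) : Set G)) ⧸
          Cfsg.pPrimeCore 2 ↥(normalizer ((S : Subgroup G) : Set G)) ≃*
            Cfsg.semiaffineGroup (GaloisField 2 5)))) :=
  model_two (h.eqConj 2) S hc he hn hcard

end Cfsg.Agent.EqSubConj
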