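import Cfsg.Agent.Lib.EqSubConj.Basic
import Cfsg.Agent.Lib.Coprime.Commutator
import Cfsg.Agent.Lib.Coprime.Sylow
import Cfsg.Agent.Lib.Involutions.EqualOrderConj.Frame
import Cfsg.Agent.Lib.CharTheory.BrauerSuzuki.Complement
import Cfsg.Agent.S4020
import Cfsg.Agent.S4025
import Cfsg.Agent.S0205

/-!
# An element of order `p` on an odd Sylow subgroup

If every element of the Sylow `2`-subgroup has order at most two, an element `d` of order `p`
normalizing an `r`-subgroup `R` either centralizes it or fixes no nontrivial element of it,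
provided the elements of order `r` commute with involutions.
-/

set_option autoImplicit false

namespace Cfsg.Agent.EqSubConj

open Subgroup Involutions.Basic

universe u

variable {G : Type u} [Group G] [Finite G]

/-- A `p`-group acting on an elementary group of order `r ^ 2` with `p ∣ r - 1` fixes a subgroup of
order `r`. -/
theorem exists_invariant_line {p r : ℕ} [Fact p.Prime] [Fact r.Prime] (hp : Odd p) (hpr : p ∣ r - 1)
    {A V : Subgroup G} (hA : IsPGroup p A) (hAV : A ≤ normalizer (V : Set G))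
    (hV : Nat.card V = r ^ 2) (he : ∀ x ∈ V, x ^ r = 1) :
    ∃ x ∈ V, x ≠ 1 ∧ ∀ a ∈ A, a * x * a⁻¹ ∈ zpowers x := by
  classical
  have hr : r.Prime := Fact.out
  have hp' : p.Prime := Fact.out
  let T := {L : Subgroup G // L ≤ V ∧ Nat.card L = r}
  have hord : ∀ x : G, x ∈ V → x ≠ 1 → orderOf x = r := fun x hx h1 => orderOf_eq_prime (he x hx) h1
  have huniq : ∀ (L : T) (x : G), x ∈ L.1 → x ≠ 1 → L.1 = zpowers x := fun L x hx h1 =>
    (eq_of_le_of_card_ge (zpowers_le.2 hx) (by rw [L.2.2, Nat.card_zpowers, hord x (L.2.1 hx) h1])).symm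
  let e : (Σ L : T, {x : L.1 // x ≠ 1}) ≃ {x : V // x ≠ 1} :=
    { toFun := fun z => ⟨⟨z.2.1.1, z.1.2.1 z.2.1.2⟩, fun h => z.2.2 (Subtype.ext (congrArg Subtype.val h :))⟩
      invFun := fun x => ⟨⟨zpowers x.1.1, zpowers_le.2 x.1.2,
          by rw [Nat.card_zpowers, hord x.1.1 x.1.2 (fun h => x.2 (Subtype.ext h))]⟩,
        ⟨⟨x.1.1, mem_zpowers _⟩, fun h => x.2 (Subtype.ext (congrArg Subtype.val h :))⟩⟩
      left_inv := by
        rintro ⟨L, ⟨⟨x, hx⟩, hx1⟩⟩
        have h := huniq L x hx (fun h => hx1 (Subtype.ext h))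
        obtain ⟨L, hL⟩ := L
        subst h
        rfl
      right_inv := fun x => rfl }
  have hT : Nat.card T * (r - 1) = r ^ 2 - 1 := by
    haveI := Fintype.ofFinite T
    have h1 : ∀ {W : Subgroup G}, Nat.card {x : W // x ≠ 1} = Nat.card W - 1 := fun {W} => by
      haveI := Fintype.ofFinite W
      rw [Nat.card_eq_fintype_card, Fintype.card_subtype_compl, Fintype.card_subtype_eq,
        Nat.card_eq_fintype_card]
    have := Nat.card_congr e
    rw [Nat.card_sigma, h1, hV, Finset.sum_congr rfl fun L _ => (h1 (W := L.1)).trans (by rw [L.2.2]),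
      Finset.sum_const, smul_eq_mul, Finset.card_univ, ← Nat.card_eq_fintype_card] at this
    exact this
  have hTcard : Nat.card T = r + 1 := by
    refine Nat.eq_of_mul_eq_mul_right (by have := hr.two_le; omega : 0 < r - 1) ?_
    rw [hT, ← Nat.sq_sub_sq, one_pow]
  have hconj : ∀ (a : A) (L : T), (L.1.map (MulAut.conj (a : G)).toMonoidHom) ≤ V ∧
      Nat.card ↥(L.1.map (MulAut.conj (a : G)).toMonoidHom) = r := fun a L => by
    refine ⟨?_, by rw [Transfer.Fusion.card_map_conj, L.2.2]⟩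
    rintro _ ⟨x, hx, rfl⟩
    exact (le_normalizer_iff.1 hAV) a a.2 x (L.2.1 hx)
  letI : MulAction A T :=
    { smul := fun a L => ⟨L.1.map (MulAut.conj (a : G)).toMonoidHom, hconj a L⟩
      one_smul := fun L => Subtype.ext (by
        show L.1.map (MulAut.conj ((1 : A) : G)).toMonoidHom = L.1
        rw [OneMemClass.coe_one, Transfer.Fusion.map_conj_one])
      mul_smul := fun a b L => Subtype.ext (by
        show L.1.map (MulAut.conj ((a * b : A) : G)).toMonoidHom =
          (L.1.map (MulAut.conj (b : G)).toMonoidHom).map (MulAut.conj (a : G)).toMonoidHom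
        rw [coe_mul, Transfer.Fusion.map_conj_mul]) }
  have hnd : ¬ p ∣ Nat.card T := by
    rw [hTcard]
    intro h
    have h2 : p ∣ 2 := by
      have := Nat.dvd_sub h hpr
      have := hr.two_le
      rwa [show r + 1 - (r - 1) = 2 by omega] at *
    exact absurd ((Nat.prime_dvd_prime_iff_eq hp' Nat.prime_two).1 h2 ▸ hp) (by decide)
  obtain ⟨⟨L, hLV, hL⟩, hfix⟩ := hA.nonempty_fixed_point_of_prime_not_dvd_card T hnd
  obtain ⟨x, hx, hx1⟩ : ∃ x ∈ L, x ≠ 1 := by
    by_contra hh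
    push Not at hh
    rw [(Subgroup.eq_bot_iff_forall _).2 hh, Subgroup.card_bot] at hL
    exact hr.one_lt.ne hL
  have hx1' : x ≠ 1 := hx1
  refine ⟨x, hLV hx, hx1', fun a ha => ?_⟩
  have h := congrArg Subtype.val (hfix ⟨a, ha⟩)
  change L.map (MulAut.conj a).toMonoidHom = L at h
  have hmem : a * x * a⁻¹ ∈ L.map (MulAut.conj a).toMonoidHom := ⟨x, hx, rfl⟩
  have hLx : L = zpowers x := huniq ⟨L, hLV, hL⟩ x hx hx1'
  rw [h] at hmem
  exact hLx.le hmem

theorem EqSub.odd_normalizer_quotient (h : EqSub G) {r : ℕ} [Fact r.Prime] (hr : r ≠ 2)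
    (htwo : ∀ x : G, ∀ k : ℕ, x ^ 2 ^ k = 1 → x ^ 2 = 1) (P : Sylow r G)
    (hPc : IsMulCommutative (P : Subgroup G))
    (hcent : ∀ x ∈ (P : Subgroup G), ∃ s : G, orderOf s = 2 ∧ Commute s x) :
    Odd (Nat.card (↥(normalizer ((P : Subgroup G) : Set G)) ⧸
      Cfsg.pPrimeCore r ↥(normalizer ((P : Subgroup G) : Set G)))) := by
  classical
  have hr' : r.Prime := Fact.out
  have hrodd : Odd r := hr'.odd_of_ne_two hr
  set N := normalizer ((P : Subgroup G) : Set G) with hN
  set O := Cfsg.pPrimeCore r ↥N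
  set C : Subgroup ↥N := Subgroup.centralizer (((P : Subgroup G).subgroupOf N : Subgroup ↥N) : Set ↥N)
  have hPN : (P : Subgroup G) ≤ N := le_normalizer
  have hPodd : Odd (Nat.card (P : Subgroup G)) := by
    obtain ⟨k, hk⟩ := P.2.exists_card_eq
    rw [hk]; exact hrodd.pow
  by_contra ho
  rw [Nat.not_odd_iff_even] at ho
  haveI : Fact (Nat.Prime 2) := ⟨Nat.prime_two⟩
  obtain ⟨q, hq⟩ := exists_prime_orderOf_dvd_card' (G := ↥N ⧸ O) 2 (even_iff_two_dvd.1 ho)
  obtain ⟨g, rfl⟩ := QuotientGroup.mk'_surjective O q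
  -- a `2`-power part of `g` has the same image
  set k := (orderOf g).factorization 2
  set m := orderOf g / 2 ^ k
  have hm : ¬ 2 ∣ m := Nat.not_dvd_ordCompl Nat.prime_two (orderOf_pos g).ne'
  have hgm : (g ^ m) ^ 2 ^ k = 1 := by
    rw [← pow_mul, Nat.div_mul_cancel (Nat.ordProj_dvd _ 2), pow_orderOf_eq_one]
  set v : ↥N := g ^ m with hv
  have hvq : QuotientGroup.mk' O v ≠ 1 := by
    rw [hv, map_pow]
    intro e
    exact hm (hq ▸ orderOf_dvd_of_pow_eq_one e)
  have hv1 : (v : G) ≠ 1 := fun e => hvq (by rw [show v = 1 from Subtype.ext e, map_one])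
  have hv2 : orderOf (v : G) = 2 := orderOf_two_iff.2 ⟨by
    rw [← pow_two]
    exact htwo _ k (by rw [← SubgroupClass.coe_pow, hgm, OneMemClass.coe_one]), hv1⟩
  have hvC : ∀ x ∈ (P : Subgroup G), Commute (v : G) x := fun x hx =>
    h.commute_of_mixed hPodd hv2 (fun y hy => (mem_normalizer_iff.1 v.2 y).1 hy) hcent hx
  -- the image of `v` centralizes the image of `P`, which is self-centralizing
  have hfocal : v ∈ C := fun x hx => Subtype.ext (hvC _ hx).symm.eq
  haveI hPn : ((P : Subgroup G).subgroupOf N).Normal := by rw [hN]; infer_instance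
  haveI : C.Normal := inferInstance
  have hPC : (P : Subgroup G).subgroupOf N ≤ C := fun x hx y hy =>
    Subtype.ext (congrArg Subtype.val (hPc.is_comm.comm ⟨((y : N) : G), hy⟩ ⟨((x : N) : G), hx⟩) :)
  let PC : Sylow r C := (P.subtype hPN).subtype hPC
  have hcen : normalizer ((PC : Subgroup C) : Set C) ≤ Subgroup.centralizer ((PC : Subgroup C) : Set C) := by
    intro x _ y hy
    exact Subtype.ext (x.2 y hy)
  have hcompl := MonoidHom.ker_transferSylow_isComplement' PC hcen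
  set K := (MonoidHom.transferSylow PC hcen).ker
  have hKr : (Nat.card K).Coprime r := by
    rw [Nat.coprime_comm, hr'.coprime_iff_not_dvd]
    exact MonoidHom.not_dvd_card_ker_transferSylow PC hcen
  have hmem : ∀ x : C, x ∈ K ↔ (orderOf x).Coprime r := by
    intro x
    refine ⟨fun hx => hKr.of_dvd_left (K.orderOf_dvd_natCard hx), fun hx => ?_⟩
    rw [MonoidHom.mem_ker]
    obtain ⟨j, hj⟩ := PC.2.exists_card_eq
    refine orderOf_eq_one_iff.1 (Nat.eq_one_of_dvd_coprimes (hx.pow_right j)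
      (orderOf_map_dvd _ x) ?_)
    exact hj ▸ orderOf_dvd_natCard _
  haveI : K.Characteristic := Subgroup.characteristic_iff_comap_eq.2 fun φ => by
    ext x
    rw [mem_comap, hmem, hmem, MulEquiv.coe_toMonoidHom, MulEquiv.orderOf_eq]
  · have hKN : K.map C.subtype ≤ O := Cores.le_pPrimeCore (by
      rwa [card_map_of_injective C.subtype_injective])
    have hvK : v ∈ K.map C.subtype := by
      refine ⟨⟨v, hfocal⟩, ?_, rfl⟩
      rw [SetLike.mem_coe, hmem, ← Subgroup.orderOf_coe, ← Subgroup.orderOf_coe, hv2]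
      exact Nat.coprime_two_left.2 hrodd
    exact hvq ((QuotientGroup.eq_one_iff _).2 (hKN hvK))

/-- An element of order `p` on an `r`-subgroup fixing a nontrivial element centralizes it. -/
theorem EqSub.le_centralizer (h : EqSub G) (htwo : ∀ x : G, ∀ k : ℕ, x ^ 2 ^ k = 1 → x ^ 2 = 1)
    {p r : ℕ} [Fact p.Prime] [Fact r.Prime] (hp : Odd p) (hp3 : p ≠ 3) (hrp : r ≠ p) (hr : r ≠ 2)
    {d c : G} (hd : orderOf d = p) {R : Subgroup G} (hR : IsPGroup r R)
    (hdR : d ∈ normalizer (R : Set G)) (hc : c ∈ R) (hc1 : c ≠ 1) (hdc : Commute d c)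
    (hcent : ∃ s : G, orderOf s = 2 ∧ Commute s c) :
    R ≤ Subgroup.centralizer ({d} : Set G) := by
  classical
  have hp' : p.Prime := Fact.out
  have hr' : r.Prime := Fact.out
  set A := zpowers d
  have hA : IsPGroup p A := IsPGroup.of_card (n := 1) (by rw [Nat.card_zpowers, hd, pow_one])
  have hAR : A ≤ normalizer (R : Set G) := zpowers_le.2 hdR
  have hAd : Subgroup.centralizer (A : Set G) = Subgroup.centralizer ({d} : Set G) := by
    rw [show A = closure {d} from zpowers_eq_closure d, centralizer_closure]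
  obtain ⟨P, hRP⟩ := hR.exists_le_sylow
  obtain ⟨hPc, hPcase⟩ : IsMulCommutative (P : Subgroup G) ∧
      (IsCyclic (P : Subgroup G) ∨ Cfsg.IsElementaryAbelian r (P : Subgroup G)) := by
    rcases S4020.result (fun q _ H K _ _ e => h H K e) P with hh | hh | ⟨⟨e⟩⟩
    · haveI : IsCyclic (P : Subgroup G) := hh
      exact ⟨inferInstance, Or.inl hh⟩
    · exact ⟨hh.1, Or.inr hh⟩
    · exfalso
      obtain ⟨k, hk⟩ := P.2.exists_card_eq
      have h8 : (2 : ℕ) ∣ r ^ k := by
        rw [← hk, Nat.card_congr e.toEquiv, Nat.card_eq_fintype_card, QuaternionGroup.card]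
        norm_num
      exact hr ((Nat.prime_dvd_prime_iff_eq Nat.prime_two hr').1 (Nat.prime_two.dvd_of_dvd_pow h8)).symm
  haveI : IsMulCommutative R := ⟨⟨fun a b => Subtype.ext (congrArg Subtype.val
    (hPc.is_comm.comm ⟨a, hRP a.2⟩ ⟨b, hRP b.2⟩) :)⟩⟩
  have hcop : (Nat.card A).Coprime (Nat.card R) := by
    obtain ⟨k, hk⟩ := hR.exists_card_eq
    rw [Nat.card_zpowers, hd, hk]
    exact ((Nat.coprime_primes hp' hr').2 hrp.symm).pow_right k
  set R0 := R ⊓ Subgroup.centralizer (A : Set G) with hR0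
  set R1 := ⁅R, A⁆ with hR1
  have hR1R : R1 ≤ R := Coprime.commutator_le_of_le_normalizer hAR
  have hinf : R0 ⊓ R1 = ⊥ := Coprime.inf_centralizer_inf_commutator hAR hcop
  have hsup : R1 ⊔ R0 = R := Coprime.commutator_sup_inf_centralizer hAR hcop
    (Or.inl (Coprime.isSolvable_of_isMulCommutative A))
  have hcR0 : c ∈ R0 := ⟨hc, by rw [hAd]; exact mem_centralizer_singleton_iff.2 hdc.symm.eq⟩
  by_contra hne
  have hR1ne : R1 ≠ ⊥ := fun e => hne (by
    rw [e, bot_sup_eq] at hsup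
    rw [← hAd, ← hsup]
    exact inf_le_right)
  rcases hPcase with hcy | hel
  · -- two nontrivial subgroups of a cyclic `r`-group meet
    haveI : IsCyclic (P : Subgroup G) := hcy
    obtain ⟨x, hx, hx1⟩ : ∃ x ∈ R1, x ≠ 1 := by
      by_contra hh
      push Not at hh
      exact hR1ne ((Subgroup.eq_bot_iff_forall _).2 hh)
    have hpow : ∀ y : G, y ∈ R → y ≠ 1 → ∃ n : ℕ, orderOf (y ^ n) = r := fun y hy h1 => by
      obtain ⟨k, hk⟩ := (IsPGroup.iff_orderOf.1 hR) ⟨y, hy⟩
      rw [← Subgroup.orderOf_coe] at hk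
      exact ⟨orderOf y / r, orderOf_pow_orderOf_div (orderOf_pos y).ne' (by
        rw [hk]
        refine dvd_pow_self r fun e => h1 (orderOf_eq_one_iff.1 (hk.trans (by rw [e, pow_zero]))))⟩
    obtain ⟨i, hi⟩ := hpow x (hR1R hx) hx1
    obtain ⟨j, hj⟩ := hpow c hc hc1
    have hxP : x ^ i ∈ (P : Subgroup G) := pow_mem (hRP (hR1R hx)) i
    have hcP : c ^ j ∈ (P : Subgroup G) := pow_mem (hRP hc) j
    have heq : zpowers (⟨x ^ i, hxP⟩ : (P : Subgroup G)) = zpowers ⟨c ^ j, hcP⟩ :=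
      CharTheory.BrauerSuzuki.subgroup_eq_of_card _ _ (by rw [Nat.card_zpowers, Nat.card_zpowers,
        Subgroup.orderOf_mk, Subgroup.orderOf_mk, hi, hj])
    have hm : (⟨x ^ i, hxP⟩ : (P : Subgroup G)) ∈ zpowers ⟨c ^ j, hcP⟩ := heq ▸ mem_zpowers _
    obtain ⟨l, hl⟩ := mem_zpowers_iff.1 hm
    have hmem : x ^ i ∈ R0 ⊓ R1 := by
      refine ⟨?_, pow_mem hx i⟩
      have : (c ^ j) ^ l = x ^ i := congrArg Subtype.val hl
      exact this ▸ zpow_mem (pow_mem hcR0 j) l
    rw [hinf, Subgroup.mem_bot] at hmem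
    rw [hmem, orderOf_one] at hi
    exact hr'.one_lt.ne hi
  have hexp : ∀ x ∈ (P : Subgroup G), x ^ r = 1 := hel.2
  have hordr : ∀ x ∈ (P : Subgroup G), x ≠ 1 → orderOf x = r := fun x hx h1 => orderOf_eq_prime (hexp x hx) h1
  -- a line normalized by `d` gives a nonabelian group of order `r * p`
  have hline : ∀ x ∈ R1, x ≠ 1 → (∀ a ∈ A, a * x * a⁻¹ ∈ zpowers x) → False := by
    intro x hx hx1 hnorm
    have hxo := hordr x (hRP (hR1R hx)) hx1
    have hAx : A ≤ normalizer (zpowers x : Set G) := by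
      refine fun a ha => EqualOrderConj.mem_normalizer_of_conj_mem fun y hy => ?_
      obtain ⟨i, rfl⟩ := mem_zpowers_iff.1 hy
      rw [← conj_zpow]
      exact zpow_mem (hnorm a ha) i
    have hco : (orderOf c).Coprime (orderOf d) := by
      rw [hordr c (hRP hc) hc1, hd]; exact (Nat.coprime_primes hr' hp').2 hrp
    have hcard : Nat.card ↥(zpowers x ⊔ A) = Nat.card (zpowers (c * d)) := by
      rw [Coprime.card_sup_of_coprime hAx (by
          rw [Nat.card_zpowers, Nat.card_zpowers, hxo, hd]; exact (Nat.coprime_primes hr' hp').2 hrp),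
        Nat.card_zpowers, Nat.card_zpowers, Nat.card_zpowers, hxo, hd,
        hdc.symm.orderOf_mul_eq_mul_orderOf_of_coprime hco, hordr c (hRP hc) hc1, hd]
    obtain ⟨g, hg⟩ := h _ _ hcard
    obtain ⟨i, hi⟩ := mem_zpowers_iff.1 (show g * x * g⁻¹ ∈ zpowers (c * d) from
      hg ▸ ⟨x, le_sup_left (b := A) (mem_zpowers x), rfl⟩)
    obtain ⟨j, hj⟩ := mem_zpowers_iff.1 (show g * d * g⁻¹ ∈ zpowers (c * d) from
      hg ▸ ⟨d, le_sup_right (a := zpowers x) (mem_zpowers d), rfl⟩)
    have e : (g * x * g⁻¹) * (g * d * g⁻¹) = (g * d * g⁻¹) * (g * x * g⁻¹) := by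
      rw [← hi, ← hj, ← zpow_add, ← zpow_add, add_comm]
    have hxd : x * d = d * x := by
      calc x * d = g⁻¹ * ((g * x * g⁻¹) * (g * d * g⁻¹)) * g := by group
        _ = g⁻¹ * ((g * d * g⁻¹) * (g * x * g⁻¹)) * g := by rw [e]
        _ = d * x := by group
    have hm : x ∈ R0 ⊓ R1 := ⟨⟨hR1R hx, by rw [hAd]; exact mem_centralizer_singleton_iff.2 hxd⟩, hx⟩
    rw [hinf, Subgroup.mem_bot] at hm
    exact hx1 hm
  -- every element of `P` commutes with an involution
  have hcentP : ∀ x ∈ (P : Subgroup G), ∃ s : G, orderOf s = 2 ∧ Commute s x := by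
    intro x hx
    obtain ⟨s, hs, hsc⟩ := hcent
    by_cases hx1 : x = 1
    · exact ⟨s, hs, hx1 ▸ Commute.one_right s⟩
    obtain ⟨g, hg⟩ := h (zpowers c) (zpowers x) (by
      rw [Nat.card_zpowers, Nat.card_zpowers, hordr c (hRP hc) hc1, hordr x hx hx1])
    obtain ⟨y, hy, hyx⟩ := (hg ▸ mem_zpowers x : x ∈ (zpowers c).map (MulAut.conj g).toMonoidHom)
    obtain ⟨i, rfl⟩ := mem_zpowers_iff.1 hy
    exact ⟨g * s * g⁻¹, by rw [orderOf_conj, hs],
      hyx ▸ Commute.map (hsc.zpow_right i) (MulAut.conj g).toMonoidHom⟩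
  obtain ⟨n, hn⟩ := P.2.exists_card_eq
  obtain ⟨a, ha⟩ := (hR.to_le hR1R).exists_card_eq
  have ha1 : 1 ≤ a := Nat.one_le_iff_ne_zero.2 fun e =>
    hR1ne (Subgroup.eq_bot_of_card_eq _ (by rw [ha, e, pow_zero]))
  obtain ⟨b, hb⟩ := (hR.to_le (inf_le_left : R0 ≤ R)).exists_card_eq
  have hb1 : 1 ≤ b := Nat.one_le_iff_ne_zero.2 fun e => hc1 (by
    have hbot : R0 = ⊥ := Subgroup.eq_bot_of_card_eq _ (by rw [hb, e, pow_zero])
    simpa [hbot] using hcR0)
  have hRcard : Nat.card R = r ^ (a + b) := by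
    have hn1 : R0 ≤ normalizer (R1 : Set G) := fun y hy =>
      EqualOrderConj.mem_normalizer_of_conj_mem fun z hz => by
        have e : y * z = z * y := congrArg Subtype.val
          (mul_comm' (⟨y, hy.1⟩ : R) ⟨z, hR1R hz⟩)
        rwa [e, mul_inv_cancel_right]
    rw [← hsup, Coprime.card_sup_of_disjoint hn1 (disjoint_iff.2 (by rw [inf_comm]; exact hinf)), ha,
      hb, pow_add]
  have hle : a + b ≤ n := (Nat.pow_dvd_pow_iff_le_right hr'.one_lt).1
    (hRcard ▸ hn ▸ card_dvd_of_le hRP)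
  -- the rank of `P` is at most three
  have hfacts : 3 ≤ n → n = 3 ∧ ∃ f : ↥(normalizer ((P : Subgroup G) : Set G)) ⧸
      Cfsg.pPrimeCore r ↥(normalizer ((P : Subgroup G) : Set G)) →*
        ↥(Cfsg.semiaffineGroup (GaloisField r 3)), Function.Injective f := by
    intro hn3
    rcases S4025.result (fun H K _ _ e => h H K e) P n hn3 hel hn _ rfl
      (S0205.result (h.odd_normalizer_quotient hr htwo P hPc hcentP)) with ⟨h3, hf, -⟩ | ⟨-, h2, -⟩
    · exact ⟨h3, hf⟩
    · exact absurd h2 hr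
  have hn3 : n ≤ 3 := by
    by_contra hh
    have := (hfacts (by omega)).1
    omega
  by_cases ha' : a = 1
  · obtain ⟨x, hx, hx1'⟩ : ∃ x ∈ R1, x ≠ 1 := by
      by_contra hh
      push Not at hh
      exact hR1ne ((Subgroup.eq_bot_iff_forall _).2 hh)
    refine hline x hx hx1' fun y hy => ?_
    have heq : zpowers x = R1 := eq_of_le_of_card_ge (zpowers_le.2 hx) (by
      rw [ha, ha', pow_one, Nat.card_zpowers, hordr x (hRP (hR1R hx)) hx1'])
    rw [heq]
    exact (le_normalizer_iff.1 (normalizer_commutator_ge_right R A)) y hy x hx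
  set N := normalizer ((P : Subgroup G) : Set G) with hNdef
  set O := Cfsg.pPrimeCore r ↥N with hOdef
  obtain ⟨hn', f, hf⟩ := hfacts (by omega)
  have ha2 : a = 2 := by omega
  have hb' : b = 1 := by omega
  have hRP' : R = (P : Subgroup G) := eq_of_le_of_card_ge hRP (by rw [hn, hRcard, hn', ha2, hb'])
  -- the fixed-point-free action of `d` on `R1`
  have hp2 : p ∣ r ^ 2 - 1 := by
    letI : MulAction A R1 :=
      { smul := fun g x => ⟨(g : G) * x * (g : G)⁻¹,
          (le_normalizer_iff.1 (normalizer_commutator_ge_right R A)) g g.2 x x.2⟩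
        one_smul := fun x => Subtype.ext (show ((1 : A) : G) * (x : G) * ((1 : A) : G)⁻¹ = x by simp)
        mul_smul := fun g k x => Subtype.ext (show ((g * k : A) : G) * (x : G) * ((g * k : A) : G)⁻¹ =
          (g : G) * ((k : G) * (x : G) * (k : G)⁻¹) * (g : G)⁻¹ by simp [mul_assoc]) }
    have hfix : MulAction.fixedPoints A R1 = {1} := by
      ext x
      constructor
      · intro hx
        have hxd : (x : G) ∈ R0 ⊓ R1 := ⟨⟨hR1R x.2, by
          rw [hAd]
          refine mem_centralizer_singleton_iff.2 ?_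
          have e : d * (x : G) * d⁻¹ = x := congrArg Subtype.val (hx ⟨d, mem_zpowers d⟩)
          exact (mul_inv_eq_iff_eq_mul.1 e).symm⟩, x.2⟩
        rw [hinf, Subgroup.mem_bot] at hxd
        exact Subtype.ext hxd
      · rintro rfl g
        exact Subtype.ext (show (g : G) * ((1 : R1) : G) * (g : G)⁻¹ = ((1 : R1) : G) by simp)
    have hmod := hA.card_modEq_card_fixedPoints R1
    rw [ha, ha2, hfix, Nat.card_coe_set_eq, Set.ncard_singleton] at hmod
    exact (Nat.modEq_iff_dvd' (Nat.one_le_pow _ _ hr'.pos)).1 hmod.symm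
  by_cases hpr : p ∣ r - 1
  · obtain ⟨x, hx, hx1, hnorm⟩ := exists_invariant_line hp hpr hA
      (normalizer_commutator_ge_right R A) (by rw [ha, ha2]) (fun y hy => hexp y (hRP (hR1R hy)))
    exact hline x hx hx1 hnorm
  -- `d` induces a nontrivial element of order `p` in `N(P) / O`
  have hdN : d ∈ normalizer ((P : Subgroup G) : Set G) := hRP' ▸ hdR
  have hdO : (⟨d, hdN⟩ : N) ∉ O := by
    intro hdO
    apply hne
    intro x hx
    have hxN : x ∈ N := le_normalizer (hRP hx)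
    refine mem_centralizer_singleton_iff.2 ?_
    have hcm : (⟨x, hxN⟩ : N) * ⟨d, hdN⟩ * (⟨x, hxN⟩ : N)⁻¹ * (⟨d, hdN⟩ : N)⁻¹ ∈
        O ⊓ (P : Subgroup G).subgroupOf N := by
      have hPn : ((P : Subgroup G).subgroupOf N).Normal := by rw [hNdef]; infer_instance
      have hOn : O.Normal := by rw [hOdef]; exact Cores.pPrimeCore_normal r
      refine ⟨O.mul_mem (hOn.conj_mem _ hdO _) (O.inv_mem hdO), ?_⟩
      rw [mul_assoc, mul_assoc, ← mul_assoc _ (⟨x, hxN⟩ : N)⁻¹]
      exact Subgroup.mul_mem _ (hRP hx : (⟨x, hxN⟩ : N) ∈ (P : Subgroup G).subgroupOf N)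
        (hPn.conj_mem _ (Subgroup.inv_mem _ (hRP hx : (⟨x, hxN⟩ : N) ∈ (P : Subgroup G).subgroupOf N)) _)
    rw [show O ⊓ (P : Subgroup G).subgroupOf N = ⊥ from Subgroup.inf_eq_bot_of_coprime (by
      rw [Nat.card_congr (subgroupOfEquivOfLe (le_normalizer : (P : Subgroup G) ≤ N)).toEquiv, hn]
      exact (Cores.pPrimeCore_card_coprime r).pow_right n), Subgroup.mem_bot,
      mul_inv_eq_one, mul_inv_eq_iff_eq_mul] at hcm
    exact congrArg Subtype.val hcm
  have hordq : orderOf (f (QuotientGroup.mk' O ⟨d, hdN⟩)) = p := by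
    rw [orderOf_injective f hf]
    refine orderOf_eq_prime ?_ ?_
    · rw [← map_pow, show (⟨d, hdN⟩ : N) ^ p = 1 from Subtype.ext (by
        rw [SubgroupClass.coe_pow, OneMemClass.coe_one, ← hd, pow_orderOf_eq_one]), map_one]
    · exact fun e => hdO ((QuotientGroup.eq_one_iff _).1 e)
  have hdiv := hordq ▸ orderOf_dvd_natCard (f (QuotientGroup.mk' O ⟨d, hdN⟩))
  rw [Involutions.EqualOrderConj.Frame.natCard_semiaffine, GaloisField.card r 3 (by norm_num),
    Involutions.EqualOrderConj.Count.card_ringAut (GaloisField.card r 3 (by norm_num)) (by norm_num)] at hdiv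
  rcases (hp'.dvd_mul.1 hdiv) with h1 | h1
  · rcases hp'.dvd_mul.1 h1 with h2 | h2
    · -- `p` divides `r ^ 2 - 1` and `r ^ 3 - 1`
      apply hpr
      have e2 : (p : ℤ) ∣ (r : ℤ) ^ 2 - 1 := by
        have := Int.natCast_dvd_natCast.2 hp2
        push_cast [Nat.one_le_pow 2 r hr'.pos] at this
        exact this
      have e3 : (p : ℤ) ∣ (r : ℤ) ^ 3 - 1 := by
        have := Int.natCast_dvd_natCast.2 h2
        push_cast [Nat.one_le_pow 3 r hr'.pos] at this
        exact this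
      have e1 : (p : ℤ) ∣ (r : ℤ) - 1 := by
        have := dvd_sub e3 (dvd_mul_of_dvd_right e2 (r : ℤ))
        rwa [show (r : ℤ) ^ 3 - 1 - r * ((r : ℤ) ^ 2 - 1) = (r : ℤ) - 1 by ring] at this
      rw [show (r : ℤ) - 1 = ((r - 1 : ℕ) : ℤ) by push_cast [hr'.one_le]; ring] at e1
      exact Int.natCast_dvd_natCast.1 e1
    · exact hrp ((Nat.prime_dvd_prime_iff_eq hp' hr').1 (hp'.dvd_of_dvd_pow h2)).symm
  · exact hp3 ((Nat.prime_dvd_prime_iff_eq hp' Nat.prime_three).1 h1)

end Cfsg.Agent.EqSubConj
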