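import Cfsg.Agent.Lib.EqSubConj.Pairs
import Cfsg.Agent.Lib.EqSubConj.OddSylow
import Cfsg.Agent.Lib.Cores.Fitting
import Cfsg.Prelude.Def_LieRecognition

/-!
# A regular normal subgroup of a point stabilizer

For each prime `r` dividing the order of `W = Cen a ∩ G_b` a Sylow `r`-subgroup of `Cen a` lies in
`W`, and no nontrivial normal `r`-subgroup exists. Hence `Cen a` is the product of `W` and of its
largest normal subgroup of order prime to `|W|`, which gives a split rank one set-up.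
-/

set_option autoImplicit false
set_option linter.style.haveILetI false

namespace Cfsg.Agent.EqSubConj.Pts

open Subgroup MulAction Involutions.Basic

universe u v

variable {G : Type u} [Group G] [Finite G] {Ω : Type v} [MulAction G Ω] {p : ℕ} (P : Pts G Ω p)

include P

theorem card_cen_coprime (a : Ω) : ¬ p ∣ Nat.card (Cen G a) := by
  intro h
  haveI : Fact p.Prime := ⟨P.prime⟩
  obtain ⟨x, hx⟩ := exists_prime_orderOf_dvd_card' p h
  exact P.cen_prime x.2 (by rw [Subgroup.orderOf_coe, hx])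

omit [Finite G] in
theorem involution_mem_cen {a : Ω} {s : G} (hs : orderOf s = 2) (ha : s • a = a) : s ∈ Cen G a :=
  mem_cen.2 fun _ ht hta => P.comm ht hta hs ha

/-- The subgroup generated by the involutions fixing a point, and the solvability of their
centralizer. -/
theorem cen_facts (htwo : ∀ x : G, ∀ k : ℕ, x ^ 2 ^ k = 1 → x ^ 2 = 1) (a : Ω) :
    Group.IsSolvable (Cen G a) ∧ ∃ E : Subgroup (Cen G a), E.Normal ∧ IsPGroup 2 E ∧ E ≠ ⊥ := by
  classical
  haveI : Fact (Nat.Prime 2) := ⟨Nat.prime_two⟩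
  let E : Subgroup (Cen G a) :=
    { carrier := {x | x ∈ Subgroup.center (Cen G a) ∧ x ^ 2 = 1}
      one_mem' := ⟨one_mem _, one_pow _⟩
      mul_mem' := fun {x y} hx hy => ⟨mul_mem hx.1 hy.1, by
        rw [Commute.mul_pow (Subgroup.mem_center_iff.1 hy.1 x), hx.2, hy.2, mul_one]⟩
      inv_mem' := fun {x} hx => ⟨inv_mem hx.1, by rw [inv_pow, hx.2, inv_one]⟩ }
  have hE : ∀ x : Cen G a, orderOf x = 2 → x ∈ E := fun x hx =>
    ⟨Subgroup.mem_center_iff.2 fun y => Subtype.ext ((mem_cen.1 y.2 (x : G)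
      (by rw [Subgroup.orderOf_coe, hx]) (P.cen_smul x.2)).eq.symm),
      hx ▸ pow_orderOf_eq_one x⟩
  haveI hEn : E.Normal := ⟨fun x hx g => by
    rw [Subgroup.mem_center_iff.1 hx.1 g, mul_inv_cancel_right]; exact hx⟩
  have hEp : IsPGroup 2 E := fun x => ⟨1, Subtype.ext (by simpa using x.2.2)⟩
  have hodd : Odd (Nat.card (Cen G a ⧸ E)) := by
    by_contra ho
    rw [Nat.not_odd_iff_even] at ho
    obtain ⟨q, hq⟩ := exists_prime_orderOf_dvd_card' (G := Cen G a ⧸ E) 2 (even_iff_two_dvd.1 ho)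
    obtain ⟨g, rfl⟩ := QuotientGroup.mk'_surjective E q
    set k := (orderOf g).factorization 2
    set m := orderOf g / 2 ^ k
    have hm : ¬ 2 ∣ m := Nat.not_dvd_ordCompl Nat.prime_two (orderOf_pos g).ne'
    have hgm : (g ^ m) ^ 2 ^ k = 1 := by
      rw [← pow_mul, Nat.div_mul_cancel (Nat.ordProj_dvd _ 2), pow_orderOf_eq_one]
    have hne : g ^ m ∉ E := fun h => hm (hq ▸ orderOf_dvd_of_pow_eq_one (by
      rw [← map_pow]; exact (QuotientGroup.eq_one_iff _).2 h))
    refine hne (hE _ (orderOf_two_iff.2 ⟨?_, fun e => hne (e ▸ one_mem _)⟩))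
    rw [← pow_two]
    refine Subtype.ext ?_
    simpa using htwo _ k (by simpa using congrArg Subtype.val hgm)
  haveI : Group.IsSolvable E := Coprime.isSolvable_of_isPGroup hEp
  haveI : Group.IsSolvable (Cen G a ⧸ E) := S0205.result hodd
  refine ⟨?_, E, hEn, hEp, fun h => ?_⟩
  · exact Group.isSolvable_of_ker_le_range E.subtype (QuotientGroup.mk' E)
      (by rw [QuotientGroup.ker_mk', Subgroup.range_subtype])
  · obtain ⟨s, hs, hsa⟩ := P.inv a
    have := hE ⟨s, P.involution_mem_cen hs hsa⟩ (by rw [Subgroup.orderOf_mk, hs])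
    rw [h, Subgroup.mem_bot] at this
    exact ne_one hs (congrArg Subtype.val this)

/-- The centralizer of the involutions at `a` is transitive on the other points. -/
theorem cen_transitive {a b : Ω} (hab : a ≠ b) {g : G} (hg : g • a = a) :
    ∃ k ∈ Cen G a, k • b = g • b := by
  haveI : Fact p.Prime := ⟨P.prime⟩
  obtain ⟨d, hd, hda, hdb⟩ := P.exists_fix hab
  set d' := g * d * g⁻¹ with hd'
  have hd'o : orderOf d' = p := by rw [hd', orderOf_conj, hd]
  have hd'a : d' • a = a := by rw [hd', mul_smul, mul_smul, inv_smul_eq_iff.2 hg.symm, hda, hg]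
  have hd'b : d' • (g • b) = g • b := by rw [hd', mul_smul, mul_smul, inv_smul_smul, hdb]
  set U := Cen G a ⊔ zpowers d with hU
  have hCU : zpowers d ≤ normalizer (Cen G a : Set G) := zpowers_le.2
    (EqualOrderConj.mem_normalizer_of_conj_mem fun x hx => conj_mem_cen_of_fix hda hx)
  have hUa : U ≤ stabilizer G a := sup_le (fun x hx => P.cen_smul hx) (zpowers_le.2 hda)
  have hd'U : d' ∈ U := by
    obtain ⟨i, hi⟩ := P.pgen hda hd'a ⟨1, by rw [hd, pow_one]⟩ ⟨1, by rw [hd'o, pow_one]⟩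
      (fun h => P.cen_prime h hd)
    have := mul_mem (mem_sup_left (T := zpowers d) hi)
      (mem_sup_right (S := Cen G a) (zpow_mem (mem_zpowers d) (-i)))
    rwa [mul_assoc, ← zpow_add, add_neg_cancel, zpow_zero, mul_one] at this
  have hdU : d ∈ U := mem_sup_right (mem_zpowers d)
  have key : ∀ {e : G}, orderOf e = p → ∀ he : e ∈ U, e • a = a →
      ∃ T : Sylow p U, (⟨e, he⟩ : U) ∈ (T : Subgroup U) ∧
        (T : Subgroup U).map U.subtype ≤ zpowers e := by
    intro e heo he hea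
    obtain ⟨T, hT⟩ := (IsPGroup.of_card (n := 1) (G := zpowers (⟨e, he⟩ : U)) (by
      rw [Nat.card_zpowers, Subgroup.orderOf_mk, heo, pow_one])).exists_le_sylow
    refine ⟨T, hT (mem_zpowers _), P.pgroup_le_zpowers heo hea (T.2.map _)
      ((map_subtype_le _).trans hUa) ⟨⟨e, he⟩, hT (mem_zpowers _), rfl⟩⟩
  obtain ⟨T, hT, -⟩ := key hd hdU hda
  obtain ⟨T', -, hT'⟩ := key hd'o hd'U hd'a
  obtain ⟨m, hm⟩ := MulAction.exists_smul_eq U T T'
  have hconj : (m : G) * d * (m : G)⁻¹ ∈ zpowers d' := by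
    refine hT' ⟨m * ⟨d, hdU⟩ * m⁻¹, ?_, rfl⟩
    rw [← hm, SetLike.mem_coe, Sylow.smul_def, Sylow.pointwise_smul_def]
    exact Subgroup.smul_mem_pointwise_smul _ (MulAut.conj m) _ hT
  obtain ⟨k, hk, x, hx, hkx⟩ := (Coprime.mem_sup_of_le_normalizer hCU).1 m.2
  obtain ⟨i, rfl⟩ := mem_zpowers_iff.1 hx
  refine ⟨k, hk, ?_⟩
  have hkb : k • b = (m : G) • b := by
    rw [← hkx, mul_smul, (stabilizer G b).zpow_mem hdb i]
  rw [hkb]
  have hma : (m : G) • a = a := hUa m.2
  obtain ⟨j, hj⟩ := mem_zpowers_iff.1 hconj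
  by_contra hne
  have hbm : a ≠ (m : G) • b := fun e => hab (smul_left_cancel (m : G) (hma.trans e))
  have hbg : a ≠ g • b := fun e => hab (smul_left_cancel g (hg.trans e))
  refine P.fix_two (X := a) (Y := (m : G) • b) (Z := g • b)
    (show orderOf ((m : G) * d * (m : G)⁻¹) = p by rw [orderOf_conj, hd]) hbm hne hbg ?_ ?_ ?_
  · rw [← hj]; exact (stabilizer G a).zpow_mem hd'a j
  · rw [mul_smul, mul_smul, inv_smul_smul, hdb]
  · rw [← hj]; exact (stabilizer G (g • b)).zpow_mem hd'b j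

/-- The split rank one set-up. -/
theorem exists_setup [FaithfulSMul G Ω] (htwo : ∀ x : G, ∀ k : ℕ, x ^ 2 ^ k = 1 → x ^ 2 = 1)
    (hp3 : p ≠ 3) {a b : Ω} (hab : a ≠ b) :
    ∃ (t : G) (Q : Subgroup G), Cfsg.IsRankOneSetup G Ω a t Q ∧ t • a = b ∧ Q ≤ Cen G a := by
  classical
  haveI : Fact p.Prime := ⟨P.prime⟩
  obtain ⟨t, ht, hta, -⟩ := P.swap hab
  obtain ⟨d, hd, hda, hdb⟩ := P.exists_fix hab
  obtain ⟨s, hs, hsa⟩ := P.inv a
  have hfacts := P.cen_facts htwo a
  set C := Cen G a with hC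
  obtain ⟨hsolv, E, hEn, hEp, hE1⟩ := hfacts
  haveI : Group.IsSolvable C := hsolv
  set W := C ⊓ stabilizer G b with hW
  have hWodd : Odd (Nat.card W) := (P.odd_two hab).of_dvd_nat
    (card_dvd_of_le (inf_le_inf_right _ fun x hx => P.cen_smul hx))
  set π : Set ℕ := {r | r ∣ Nat.card W}
  set A := zpowers d with hA
  have hAC : A ≤ normalizer (C : Set G) := zpowers_le.2
    (EqualOrderConj.mem_normalizer_of_conj_mem fun x hx => conj_mem_cen_of_fix hda hx)
  have hcopAC : (Nat.card A).Coprime (Nat.card C) := by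
    rw [Nat.card_zpowers, hd]
    exact (P.prime.coprime_iff_not_dvd).2 (P.card_cen_coprime a)
  have hWd : ∀ w ∈ W, Commute d w := fun w hw => P.commute_fix hab hd hda hdb hw.1 hw.2
  -- the Sylow subgroups for the primes of `π`
  have hsyl : ∀ r : ℕ, r.Prime → r ∈ π → ∃ R : Sylow r C, (R : Subgroup C).map C.subtype ≤ W := by
    intro r hr hrW
    haveI : Fact r.Prime := ⟨hr⟩
    obtain ⟨c, hc⟩ := exists_prime_orderOf_dvd_card' (G := W) r hrW
    have hc' : orderOf (c : G) = r := by rw [Subgroup.orderOf_coe, hc]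
    have hAc : A ≤ normalizer (zpowers (c : G) : Set G) := zpowers_le.2
      (EqualOrderConj.mem_normalizer_of_conj_mem fun x hx => by
        obtain ⟨i, rfl⟩ := mem_zpowers_iff.1 hx
        rw [((hWd c c.2).zpow_right i).eq, mul_inv_cancel_right]
        exact zpow_mem (mem_zpowers _) i)
    obtain ⟨R, hcR, hAR⟩ := Coprime.exists_invariant_sylow_ge hAC hcopAC (Or.inr hsolv)
      (zpowers_le.2 c.2.1) (IsPGroup.of_card (n := 1) (by rw [Nat.card_zpowers, hc', pow_one])) hAc
    refine ⟨R, fun x hx => ?_⟩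
    have hrC : r ∣ Nat.card C := hrW.trans (card_dvd_of_le inf_le_left)
    have hrp : r ≠ p := fun e => P.card_cen_coprime a (e ▸ hrC)
    have hr2 : r ≠ 2 := fun e => Nat.not_even_iff_odd.2 hWodd (even_iff_two_dvd.2 (e ▸ hrW))
    have hle := P.eqSub.le_centralizer htwo P.odd hp3 hrp hr2 hd (R.2.map C.subtype)
      (hAR (mem_zpowers d)) (hcR (mem_zpowers _))
      (fun e => by rw [e, orderOf_one] at hc'; exact hr.one_lt.ne hc') (hWd c c.2)
      ⟨s, hs, mem_cen.1 c.2.1 s hs hsa⟩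
    have hxC : x ∈ C := map_subtype_le _ hx
    exact ⟨hxC, P.fix_of_commute hab hd hda hdb (P.cen_smul hxC)
      (mem_centralizer_singleton_iff.1 (hle hx)).symm⟩
  -- automorphisms induced by the stabilizer of `a`
  let σ : ∀ g : G, g • a = a → C ≃* C := fun g hg =>
    { toFun := fun x => ⟨g * x * g⁻¹, conj_mem_cen_of_fix hg x.2⟩
      invFun := fun x => ⟨g⁻¹ * x * g, by
        simpa using conj_mem_cen_of_fix (g := g⁻¹) (inv_smul_eq_iff.2 hg.symm) x.2⟩
      left_inv := fun x => Subtype.ext (by simp [mul_assoc])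
      right_inv := fun x => Subtype.ext (by simp [mul_assoc])
      map_mul' := fun x y => Subtype.ext (by simp [mul_assoc]) }
  -- no normal `r`-subgroup for `r ∈ π`
  have hcore : ∀ r : ℕ, r.Prime → r ∈ π → Cfsg.pCore r C = ⊥ := by
    intro r hr hrW
    haveI : Fact r.Prime := ⟨hr⟩
    obtain ⟨R, hR⟩ := hsyl r hr hrW
    refine (Subgroup.eq_bot_iff_forall _).2 fun x hx => ?_
    refine Subtype.ext (FaithfulSMul.eq_of_smul_eq_smul (α := Ω) fun z => ?_)
    rw [OneMemClass.coe_one, one_smul]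
    by_cases hz : z = a
    · rw [hz]; exact P.cen_smul x.2
    obtain ⟨g, hga, hgb⟩ := P.stab_transitive hab.symm hz
    have hga' : g⁻¹ • a = a := inv_smul_eq_iff.2 hga.symm
    have hy : σ g⁻¹ hga' x ∈ Cfsg.pCore r C := by
      rw [← Cores.map_pCore_eq (σ g⁻¹ hga') r]
      exact ⟨x, hx, rfl⟩
    have hb : ((σ g⁻¹ hga' x : C) : G) • b = b :=
      (hR ⟨_, Cores.pCore_le_sylow R hy, rfl⟩).2
    have hb' : (g⁻¹ * (x : G) * (g⁻¹)⁻¹) • b = b := hb
    rw [inv_inv, mul_smul, mul_smul, hgb, inv_smul_eq_iff, hgb] at hb'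
    exact hb'
  set Q₀ := Cfsg.piCore πᶜ C with hQ₀
  have hQ₀σ : ∀ (g : G) (hg : g • a = a), ∀ x ∈ Q₀, σ g hg x ∈ Q₀ := fun g hg x hx => by
    rw [hQ₀, ← Cores.map_piCore_eq (σ g hg) πᶜ]
    exact ⟨x, hx, rfl⟩
  set Q := Q₀.map C.subtype with hQ
  have hQC : Q ≤ C := map_subtype_le _
  have hQb : ∀ x ∈ Q, x • b = b → x = 1 := by
    rintro _ ⟨x, hx, rfl⟩ hxb
    by_contra hx1
    obtain ⟨r, hr, hrd⟩ := Nat.exists_prime_and_dvd
      (fun e : orderOf (x : G) = 1 => hx1 (orderOf_eq_one_iff.1 e))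
    refine Cores.piCore_isPi (G := C) πᶜ r hr ?_ (hrd.trans (W.orderOf_dvd_natCard ⟨x.2, hxb⟩))
    rw [Subgroup.orderOf_coe] at hrd
    exact hrd.trans (Q₀.orderOf_dvd_natCard hx)
  -- `d` acts trivially modulo `Q₀`
  have hmod : ∀ x : C, x⁻¹ * σ d hda x ∈ Q₀ := by
    haveI : Q₀.Normal := by rw [hQ₀]; infer_instance
    haveI : Group.IsSolvable (C ⧸ Q₀) :=
      Group.isSolvable_of_surjective (QuotientGroup.mk'_surjective Q₀)
    let τ : C ⧸ Q₀ →* C ⧸ Q₀ := QuotientGroup.map Q₀ Q₀ (σ d hda).toMonoidHom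
      (fun x hx => hQ₀σ d hda x hx)
    set F := Cfsg.fittingSubgroup (C ⧸ Q₀)
    have hF : ∀ f ∈ F, τ f = f := by
      have : F ≤ MonoidHom.eqLocus τ (MonoidHom.id _) := by
        rw [show F = _ from Cores.fittingSubgroup_eq_iSup]
        refine iSup_le fun r => ?_
        have hr := Nat.prime_of_mem_primeFactors r.2
        haveI : Fact (r : ℕ).Prime := ⟨hr⟩
        by_cases hrW : (r : ℕ) ∈ π
        · intro f hf
          obtain ⟨R, hR⟩ := hsyl r hr hrW
          obtain ⟨x, hx, rfl⟩ : f ∈ (R : Subgroup C).map (QuotientGroup.mk' Q₀) := by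
            have h2 := Cores.pCore_le_sylow (R.mapSurjective (QuotientGroup.mk'_surjective Q₀)) hf
            exact h2
          have hxd : σ d hda x = x := Subtype.ext (by
            have e : Commute d (x : G) := hWd _ (hR ⟨x, hx, rfl⟩)
            show d * (x : G) * d⁻¹ = x
            rw [e.eq, mul_inv_cancel_right])
          show τ (QuotientGroup.mk' Q₀ x) = QuotientGroup.mk' Q₀ x
          show QuotientGroup.mk' Q₀ (σ d hda x) = QuotientGroup.mk' Q₀ x
          rw [hxd]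
        · have hb : Cfsg.pCore (r : ℕ) (C ⧸ Q₀) ≤ Cfsg.piCore πᶜ (C ⧸ Q₀) := by
            rw [Cores.pCore_eq_piCore]
            exact Cores.piCore_mono (Set.singleton_subset_iff.2 hrW)
          have hb' : Cfsg.piCore πᶜ (C ⧸ Q₀) = ⊥ := Cores.piCore_quotient_self (G := C) πᶜ
          rw [hb', le_bot_iff] at hb
          rw [hb]
          exact bot_le
      exact fun f hf => this hf
    have hτp : ∀ q, τ^[p] q = q := by
      intro q
      obtain ⟨x, rfl⟩ := QuotientGroup.mk'_surjective Q₀ q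
      have : ∀ n : ℕ, τ^[n] (QuotientGroup.mk' Q₀ x) =
          QuotientGroup.mk' Q₀ ⟨d ^ n * x * (d ^ n)⁻¹,
            conj_mem_cen_of_fix ((stabilizer G a).pow_mem hda n) x.2⟩ := by
        intro n
        induction n with
        | zero => simp
        | succ n ih =>
          rw [Function.iterate_succ_apply', ih]
          refine congrArg (QuotientGroup.mk' Q₀) (Subtype.ext ?_)
          show d * (d ^ n * (x : G) * (d ^ n)⁻¹) * d⁻¹ = d ^ (n + 1) * (x : G) * (d ^ (n + 1))⁻¹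
          rw [pow_succ']; group
      rw [this]
      refine congrArg (QuotientGroup.mk' Q₀) (Subtype.ext ?_)
      show d ^ p * (x : G) * (d ^ p)⁻¹ = x
      rw [← hd, pow_orderOf_eq_one, one_mul, inv_one, mul_one]
    intro x
    rw [← QuotientGroup.eq_one_iff]
    set q := QuotientGroup.mk' Q₀ x
    show q⁻¹ * τ q = 1
    set y := q⁻¹ * τ q with hy
    have hyF : y ∈ F := by
      refine Cores.centralizer_fittingSubgroup_le (mem_centralizer_iff.2 fun f hf => ?_)
      have e : τ (q * f * q⁻¹) = q * f * q⁻¹ :=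
        hF _ ((inferInstance : (Cfsg.fittingSubgroup (C ⧸ Q₀)).Normal).conj_mem f hf q)
      rw [map_mul, map_mul, map_inv, hF f hf] at e
      rw [hy]
      calc f * (q⁻¹ * τ q) = q⁻¹ * (q * f * q⁻¹) * τ q := by group
        _ = q⁻¹ * (τ q * f * (τ q)⁻¹) * τ q := by rw [e]
        _ = q⁻¹ * τ q * f := by group
    have hpow : ∀ n : ℕ, τ^[n] q = q * y ^ n := by
      intro n
      induction n with
      | zero => simp
      | succ n ih =>
        rw [Function.iterate_succ_apply', ih, map_mul, map_pow, hF y hyF, pow_succ', ← mul_assoc,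
          hy, mul_inv_cancel_left]
    have hyp : y ^ p = 1 := by
      have := hpow p
      rw [hτp] at this
      exact left_eq_mul.1 this
    refine orderOf_eq_one_iff.1 (Nat.eq_one_of_dvd_coprimes
      ((P.prime.coprime_iff_not_dvd).2 (P.card_cen_coprime a)) (orderOf_dvd_of_pow_eq_one hyp) ?_)
    exact (orderOf_dvd_natCard y).trans (card_quotient_dvd_card Q₀)
  -- `C = Q W`
  have hsplit : ∀ x ∈ C, ∃ n ∈ Q, ∃ w ∈ W, x = n * w := by
    intro x hx
    have hAQ : A ≤ normalizer (Q : Set G) := zpowers_le.2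
      (EqualOrderConj.mem_normalizer_of_conj_mem fun y hy => by
        obtain ⟨z, hz, rfl⟩ := hy
        exact ⟨σ d hda z, hQ₀σ d hda z hz, rfl⟩)
    have hAx : ∀ e ∈ A, x⁻¹ * (e * x * e⁻¹) ∈ Q := by
      intro e he
      rw [hA, zpowers_eq_closure] at he
      induction he using closure_induction with
      | mem z hz =>
        rw [Set.mem_singleton_iff.1 hz]
        exact ⟨_, hmod ⟨x, hx⟩, rfl⟩
      | one => simp
      | mul e f he' _ h1 h2 =>
        have hn := (mem_normalizer_iff.1 (hAQ (hA ▸ zpowers_eq_closure d ▸ he')) _).1 h2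
        have e' : x⁻¹ * (e * x * e⁻¹) * (e * (x⁻¹ * (f * x * f⁻¹)) * e⁻¹) =
            x⁻¹ * (e * f * x * (e * f)⁻¹) := by group
        exact e' ▸ mul_mem h1 hn
      | inv e he' h1 =>
        have hn := (mem_normalizer_iff.1 (hAQ (inv_mem (hA ▸ zpowers_eq_closure d ▸ he'))) _).1 (inv_mem h1)
        have e' : e⁻¹ * (x⁻¹ * (e * x * e⁻¹))⁻¹ * e⁻¹⁻¹ = x⁻¹ * (e⁻¹ * x * e⁻¹⁻¹) := by group
        exact e' ▸ hn
    obtain ⟨n, hn, hxn⟩ := Coprime.exists_fixed_in_coset hAQ
      (hcopAC.of_dvd_right (card_dvd_of_le hQC)) (Or.inl (Coprime.isSolvable_of_isMulCommutative A)) hAx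
    have hwC : x * n ∈ C := mul_mem hx (hQC hn)
    have hwW : x * n ∈ W := ⟨hwC, P.fix_of_commute hab hd hda hdb (P.cen_smul hwC)
      (mem_centralizer_iff.1 hxn d (mem_zpowers d))⟩
    haveI : Q₀.Normal := by rw [hQ₀]; infer_instance
    obtain ⟨z, hz, hzn⟩ := hn
    refine ⟨x * n⁻¹ * x⁻¹, ⟨⟨x, hx⟩ * z⁻¹ * (⟨x, hx⟩ : C)⁻¹,
      (inferInstance : Q₀.Normal).conj_mem _ (inv_mem hz) _, ?_⟩, x * n, hwW, by group⟩
    rw [← hzn]; rfl
  refine ⟨t, Q, ?_, hta, hQC⟩
  refine
    { two_transitive := P.two_transitive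
      mul_self := inv_sq_one ht
      ne_one := ne_one ht
      not_mem := fun h => hab (h.symm.trans hta)
      le := fun x hx => P.cen_smul (hQC hx)
      conj_mem := ?_
      inf_eq_bot := ?_
      sup_eq := ?_
      even_card := ?_
      odd_card := ?_ }
  · rintro g hg _ ⟨x, hx, rfl⟩
    exact ⟨σ g hg x, hQ₀σ g hg x hx, rfl⟩
  · rw [hta]
    exact (Subgroup.eq_bot_iff_forall _).2 fun x hx => hQb x hx.1 hx.2
  · rw [hta]
    refine le_antisymm (sup_le (fun x hx => P.cen_smul (hQC hx)) inf_le_left) fun g hg => ?_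
    obtain ⟨k, hk, hkb⟩ := P.cen_transitive hab hg
    obtain ⟨n, hn, w, hw, rfl⟩ := hsplit k hk
    rw [mul_smul, show w • b = b from hw.2] at hkb
    have hh : n⁻¹ * g ∈ stabilizer G a ⊓ stabilizer G b := by
      refine ⟨(stabilizer G a).mul_mem ((stabilizer G a).inv_mem (P.cen_smul (hQC hn))) hg, ?_⟩
      show (n⁻¹ * g) • b = b
      rw [mul_smul, ← hkb, inv_smul_smul]
    have := mul_mem (mem_sup_left (T := stabilizer G a ⊓ stabilizer G b) hn) (mem_sup_right (S := Q) hh)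
    rwa [mul_inv_cancel_left] at this
  · have h2 : 2 ∈ πᶜ := fun h => Nat.not_even_iff_odd.2 hWodd (even_iff_two_dvd.2 h)
    have hEQ : E ≤ Q₀ := Cores.le_piCore fun r hr hrd => by
      obtain ⟨k, hk⟩ := hEp.exists_card_eq
      rw [hk] at hrd
      rwa [(Nat.prime_dvd_prime_iff_eq hr Nat.prime_two).1 (hr.dvd_of_dvd_pow hrd)]
    rw [hQ, card_map_of_injective C.subtype_injective, even_iff_two_dvd]
    obtain ⟨k, hk⟩ := hEp.exists_card_eq
    have hk0 : k ≠ 0 := fun e => hE1 (Subgroup.eq_bot_of_card_eq _ (by rw [hk, e, pow_zero]))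
    exact ((hk ▸ dvd_pow_self 2 hk0 : 2 ∣ Nat.card E)).trans (card_dvd_of_le hEQ)
  · rw [hta]
    exact P.odd_two hab

end Cfsg.Agent.EqSubConj.Pts
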