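import Cfsg.Agent.Lib.EqSubConj.Frame
import Cfsg.Agent.Lib.EqSubConj.Regular
import Cfsg.Agent.Lib.EqSubConj.Model
import Cfsg.Agent.Lib.GW.ConsFull
import Cfsg.Agent.Lib.Involutions.SylowPSUThree
import Cfsg.Agent.Lib.Suzuki.LieEquiv
import Cfsg.Agent.Lib.AutPSL.Conj
import Cfsg.Agent.Lib.AutPSL.Out
import Cfsg.Agent.Lib.AutPSL.Diag
import Cfsg.Agent.Lib.PSLOrderSpectrum.Main
import Cfsg.Agent.S1136
import Cfsg.Agent.S0813

/-!
# Sylow `2`-subgroups of order at least eight

Without odd core the group is one of `AGL₁(8)`, `AΓL₁(8)`, `AΓL₁(32)`, `PSL₂(8)` or `Aut(PSL₂(32))`.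
-/

set_option autoImplicit false
set_option linter.style.haveILetI false

namespace Cfsg.Agent.EqSubConj

open Subgroup MulAction Involutions.Basic

universe u v

/-- A field automorphism of `PSL₂(8)` is an outer automorphism of order three. -/
theorem exists_outer_three {F : Type*} [Field F] [Fintype F] (hF : Fintype.card F = 2 ^ 3) :
    ∃ α : MulAut (Matrix.ProjectiveSpecialLinearGroup (Fin 2) F), orderOf α = 3 ∧
      α ∉ (MulAut.conj : Matrix.ProjectiveSpecialLinearGroup (Fin 2) F →* _).range := by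
  haveI : Fact (Nat.Prime 2) := ⟨Nat.prime_two⟩
  haveI : Fact (Nat.Prime 3) := ⟨Nat.prime_three⟩
  obtain ⟨ea⟩ := AutPSL.Out.exists_ringAut_equiv (p := 2) (f := 3) hF
  set σ : F ≃+* F := ea.symm (Multiplicative.ofAdd 1) with hσ
  have hσ3 : orderOf σ = 3 := by
    rw [hσ, MulEquiv.orderOf_eq, orderOf_ofAdd_eq_addOrderOf, ZMod.addOrderOf_one]
  refine ⟨AutPSL.Basic.fAut σ, by
    rw [orderOf_injective _ (AutPSL.Conj.fAut_injective le_rfl), hσ3], fun hr => ?_⟩
  obtain ⟨g, hg⟩ := AutPSL.Diag.inn_le_range hr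
  have h1 := AutPSL.Out.mul_field_eq_one le_rfl (g := g⁻¹) (σ := σ)
    (by rw [map_inv, hg, inv_mul_cancel])
  rw [h1.1, orderOf_one] at hσ3
  omega

variable {G : Type u} [Group G] [Finite G]

omit [Finite G] in
/-- A Sylow `2`-subgroup of exponent two excludes elements of order four. -/
theorem no_four {H : Type*} [Group H] [Finite H] {f : H →* G} (hf : Function.Injective f)
    (htwo : ∀ x : G, ∀ k : ℕ, x ^ 2 ^ k = 1 → x ^ 2 = 1) (P : Sylow 2 H) (x : (P : Subgroup H)) :
    x ^ 2 = 1 := by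
  obtain ⟨k, hk⟩ := P.2 x
  refine Subtype.ext (hf ?_)
  rw [SubgroupClass.coe_pow, map_pow, OneMemClass.coe_one, map_one]
  refine htwo _ k ?_
  rw [← map_pow, ← SubgroupClass.coe_pow, hk, OneMemClass.coe_one, map_one]

theorem not_suzuki {L : Subgroup G} (htwo : ∀ x : G, ∀ k : ℕ, x ^ 2 ^ k = 1 → x ^ 2 = 1) :
    ¬ Cfsg.Lie.IsoSuzuki L := by
  rintro ⟨F, hf, hfin, m, hm, hF, ⟨e⟩⟩
  haveI : Fact (Nat.Prime 2) := ⟨Nat.prime_two⟩
  haveI : CharP F 2 := charP_of_card_eq_prime_pow (p := 2) (f := 2 * m + 1) hF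
  obtain ⟨e'⟩ := Suzuki.lieEquiv (F := F) hm hF
  haveI : Finite (Cfsg.Sz F m) := Finite.of_equiv L (e.trans e'.symm).toEquiv
  obtain ⟨P⟩ : Nonempty (Sylow 2 (Cfsg.Sz F m)) := inferInstance
  have h4 := (Suzuki.sylow_structure hm hF P).2.1
  have h2 : Monoid.exponent (P : Subgroup (Cfsg.Sz F m)) ∣ 2 :=
    Monoid.exponent_dvd_of_forall_pow_eq_one fun x =>
      no_four (f := L.subtype.comp (e.trans e'.symm).symm.toMonoidHom)
        (L.subtype_injective.comp (e.trans e'.symm).symm.injective) htwo P x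
  rw [h4] at h2
  omega

theorem not_unitary {L : Subgroup G} (htwo : ∀ x : G, ∀ k : ℕ, x ^ 2 ^ k = 1 → x ^ 2 = 1)
    {F : Type} [Field F] [Fintype F] {m : ℕ} (hm : 2 ≤ m) (hF : Fintype.card F = (2 ^ m) ^ 2)
    (e : L ≃* Cfsg.PSU 3 F (2 ^ m)) : False := by
  haveI : Fact (Nat.Prime 2) := ⟨Nat.prime_two⟩
  haveI : CharP F 2 := charP_of_card_eq_prime_pow (p := 2) (f := m * 2) (by rw [hF, ← pow_mul])
  haveI : Finite (Cfsg.PSU 3 F (2 ^ m)) := Finite.of_equiv L e.toEquiv
  obtain ⟨B⟩ := Involutions.SylowPSUThree.exists_base (F := F) (n := m) hF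
  obtain ⟨P⟩ : Nonempty (Sylow 2 (Cfsg.PSU 3 F (2 ^ m))) := inferInstance
  obtain ⟨e'⟩ := Involutions.SylowPSUThree.sylow_equiv hF B P
  obtain ⟨-, -, ⟨x, y, hxy⟩, -⟩ := Involutions.SylowPSUThree.isSuzukiTwoGroup_congr e'
    (Involutions.SylowPSUThree.isSuzukiTwoGroup hF B hm)
  have hsq : ∀ z : (P : Subgroup (Cfsg.PSU 3 F (2 ^ m))), z ^ 2 = 1 := fun z =>
    no_four (f := L.subtype.comp e.symm.toMonoidHom)
      (L.subtype_injective.comp e.symm.injective) htwo P z
  refine hxy ?_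
  have h1 := hsq (x * y)
  rw [pow_two] at h1
  have hx := hsq x
  have hy := hsq y
  rw [pow_two] at hx hy
  rw [← inv_eq_of_mul_eq_one_right h1, _root_.mul_inv_rev, inv_eq_of_mul_eq_one_right hx,
    inv_eq_of_mul_eq_one_right hy]

variable {Ω : Type v} [MulAction G Ω] {p : ℕ}

/-- An involution commuting with `s` fixes the point of `s`. -/
theorem Pts.fix_of_comm_inv (P : Pts G Ω p) {s u : G} {X : Ω} (hs : orderOf s = 2) (hX : s • X = X)
    (hc : Commute u s) : u • X = X :=
  (P.unique hs).unique (by rw [← mul_smul, ← hc.eq, mul_smul, hX]) hX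

/-- The action is faithful without odd core. -/
theorem Pts.faithful (P : Pts G Ω p) (hO : Cfsg.oddCore G = ⊥) (a : Ω) : FaithfulSMul G Ω := by
  have hker : ∀ g : G, (∀ X : Ω, g • X = X) → g = 1 := by
    intro g hg
    set K := (MulAction.toPermHom G Ω).ker with hK
    have hgK : g ∈ K := MonoidHom.mem_ker.2 (Equiv.ext hg)
    have hodd : Odd (Nat.card K) := by
      by_contra he
      rw [Nat.not_odd_iff_even] at he
      obtain ⟨s, hs, h2⟩ := Involutions.StronglyEmbedded.exists_involution_mem he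
      have hsX : ∀ X : Ω, s • X = X := fun X => Equiv.congr_fun (MonoidHom.mem_ker.1 hs) X
      obtain ⟨b, hb⟩ := P.two a
      exact hb ((P.unique h2).unique (hsX b) (hsX a))
    have := hO ▸ Cores.le_oddCore (N := K) hodd
    exact Subgroup.mem_bot.1 (this hgK)
  refine ⟨fun {g₁ g₂} h => ?_⟩
  have := hker (g₂⁻¹ * g₁) fun X => by rw [mul_smul, h X, inv_smul_smul]
  rw [inv_mul_eq_one] at this
  exact this.symm

/-- The nonsolvable groups with an elementary abelian Sylow subgroup of order eight or thirty-two. -/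
theorem Pts.identify (P : Pts G Ω p) (hp3 : p ≠ 3) (hO : Cfsg.oddCore G = ⊥) (S : Sylow 2 G)
    (hc : ∀ a ∈ (S : Subgroup G), ∀ b ∈ (S : Subgroup G), a * b = b * a)
    (he : ∀ a ∈ (S : Subgroup G), a ^ 2 = 1) {n : ℕ} (hn : 2 ≤ n)
    (hcard : Nat.card (S : Subgroup G) = 2 ^ n) (a : Ω) :
    ∃ (L : Subgroup G) (_ : L.Normal) (F : Type) (_ : Field F) (_ : Fintype F),
      Fintype.card F = 2 ^ n ∧ Nonempty (L ≃* Matrix.ProjectiveSpecialLinearGroup (Fin 2) F) ∧
      centralizer (L : Set G) = ⊥ := by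
  classical
  haveI : Fact (Nat.Prime 2) := ⟨Nat.prime_two⟩
  have htwo := two_pow_sq he
  obtain ⟨b, hb⟩ := P.two a
  haveI := P.faithful hO a
  obtain ⟨t, Q, hsetup, -, -⟩ := P.exists_setup htwo hp3 (Ne.symm hb)
  have hne : (S : Subgroup G) ≠ ⊥ := fun e' => by
    rw [e', Subgroup.card_bot] at hcard
    exact absurd hcard.symm (Nat.ne_of_gt (Nat.one_lt_two_pow (by omega)))
  obtain ⟨x, hxS, hx⟩ := exists_involution hne he
  obtain ⟨y, hyS, hy⟩ : ∃ y ∈ (S : Subgroup G), y ∉ zpowers x := by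
    by_contra hh
    push Not at hh
    have := card_le_of_le (show (S : Subgroup G) ≤ zpowers x from hh)
    rw [Nat.card_zpowers, hx, hcard] at this
    have : 2 ^ 2 ≤ 2 ^ n := Nat.pow_le_pow_right (by norm_num) hn
    omega
  obtain ⟨L, hLn, hLodd, hcase⟩ := S1136.result hsetup
    ⟨x, y, ne_one hx, fun e' => hy (e' ▸ one_mem _), fun e' => hy (e' ▸ mem_zpowers x),
      inv_sq_one hx, by rw [← pow_two]; exact he y hyS, hc x hxS y hyS⟩
  haveI := hLn
  have hinvL : ∀ {s : G}, orderOf s = 2 → s ∈ L := fun {s} hs => by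
    rw [← QuotientGroup.eq_one_iff]
    have hd : orderOf (s : G ⧸ L) ∣ Nat.gcd 2 L.index := by
      refine Nat.dvd_gcd (hs ▸ orderOf_map_dvd (QuotientGroup.mk' L) s) ?_
      rw [Subgroup.index_eq_card]; exact orderOf_dvd_natCard _
    rw [Nat.coprime_two_left.2 hLodd, Nat.dvd_one, orderOf_eq_one_iff] at hd
    exact hd
  have hCL : centralizer (L : Set G) = ⊥ := by
    haveI : (centralizer (L : Set G)).Normal := Subgroup.normal_centralizer
    refine le_bot_iff.1 (hO ▸ Cores.le_oddCore ?_)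
    by_contra he'
    rw [Nat.not_odd_iff_even] at he'
    obtain ⟨s, hs, h2⟩ := Involutions.StronglyEmbedded.exists_involution_mem he'
    obtain ⟨X, hX, -⟩ := P.unique h2
    obtain ⟨Y, hY⟩ := P.two X
    obtain ⟨u, hu, huX, -⟩ := P.swap hY.symm
    have hus : Commute u s := mem_centralizer_iff.1 hs u (hinvL hu)
    exact hY (huX.symm.trans (P.fix_of_comm_inv h2 hX hus))
  rcases hcase with ⟨F, hf, hfin, ⟨m, hm, hF⟩, ⟨e⟩⟩ | hsz | ⟨F, hf, hfin, m, hm, hF, ⟨e⟩⟩
  · have hFn : Fintype.card F = 2 ^ n := by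
      rw [hF]
      congr 1
      have h1 := PSLOrderSpectrum.card_psl_two (F := F)
      have hgcd : Nat.gcd 2 (Fintype.card F - 1) = 1 := by
        refine Nat.coprime_two_left.2 ?_
        rw [hF]
        exact Nat.Even.sub_odd Nat.one_le_two_pow (Nat.even_pow.2 ⟨even_two, by omega⟩) odd_one
      rw [hgcd, one_mul, ← Nat.card_congr e.toEquiv, hF] at h1
      have h2 := congrArg (fun k : ℕ => k.factorization 2) h1
      have hq : 4 ≤ 2 ^ m := le_of_eq_of_le (by norm_num) (Nat.pow_le_pow_right (by norm_num : 0 < 2) hm)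
      have hodd1 : ¬ 2 ∣ (2 ^ m - 1) * (2 ^ m + 1) := by
        rw [← even_iff_two_dvd, Nat.not_even_iff_odd]
        exact (Nat.Even.sub_odd Nat.one_le_two_pow (Nat.even_pow.2 ⟨even_two, by omega⟩) odd_one).mul
          (Even.add_one (Nat.even_pow.2 ⟨even_two, by omega⟩))
      simp only [Nat.factorization_mul (show 2 ^ m ≠ 0 by omega)
          (show (2 ^ m - 1) * (2 ^ m + 1) ≠ 0 from mul_ne_zero (by omega) (by omega)),
        Finsupp.add_apply, Nat.factorization_eq_zero_of_not_dvd hodd1, add_zero,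
        Nat.Prime.factorization_pow Nat.prime_two, Finsupp.single_eq_same] at h2
      have hG : (Nat.card G).factorization 2 = (Nat.card L).factorization 2 := by
        rw [← L.card_mul_index, Nat.factorization_mul Nat.card_pos.ne' Subgroup.index_ne_zero_of_finite,
          Finsupp.add_apply, Nat.factorization_eq_zero_of_not_dvd (fun h' =>
            Nat.not_even_iff_odd.2 hLodd (even_iff_two_dvd.2 h')), add_zero]
      have hS := S.card_eq_multiplicity
      rw [hcard] at hS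
      have := Nat.pow_right_injective le_rfl hS
      omega
    exact ⟨L, hLn, F, hf, hfin, hFn, ⟨e⟩, hCL⟩
  · exact absurd hsz (not_suzuki htwo)
  · exact (not_unitary htwo hm hF e).elim

/-- A group containing `PSL₂(2^n)` with trivial centralizer. -/
theorem card_dvd_aut {L : Subgroup G} [L.Normal] {F : Type} [Field F] [Fintype F] {n : ℕ}
    (hn : 2 ≤ n) (hF : Fintype.card F = 2 ^ n)
    (e : L ≃* Matrix.ProjectiveSpecialLinearGroup (Fin 2) F) (hC : centralizer (L : Set G) = ⊥) :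
    Nat.card L = 2 ^ n * ((2 ^ n - 1) * (2 ^ n + 1)) ∧ Nat.card G ∣ n * Nat.card L ∧
      Nat.card (MulAut L) = n * Nat.card L := by
  haveI : Fact (Nat.Prime 2) := ⟨Nat.prime_two⟩
  have h4 : 4 ≤ 2 ^ n := le_of_eq_of_le (by norm_num) (Nat.pow_le_pow_right (by norm_num : 0 < 2) hn)
  have hgcd : Nat.gcd 2 (Fintype.card F - 1) = 1 := by
    refine Nat.coprime_two_left.2 ?_
    rw [hF]
    exact Nat.Even.sub_odd Nat.one_le_two_pow (Nat.even_pow.2 ⟨even_two, by omega⟩) odd_one
  have h1 := PSLOrderSpectrum.card_psl_two (F := F)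
  rw [hgcd, one_mul, ← Nat.card_congr e.toEquiv, hF] at h1
  have h2 := S0813.result (F := F) 2 n (by omega) hF 2 le_rfl (fun _ => h4)
  rw [Classical.Linear.natCard_PGL, Classical.GL2.natCard_SL_two, hF, ← h1, if_pos rfl, one_mul,
    ← Nat.card_congr (MulAut.congr e).toEquiv] at h2
  exact ⟨h1, h2 ▸ card_dvd_of_injective _ (GW.Cons.conjNormal_injective hC), h2⟩

/-- No extension of `PSL₂(8)` by its field automorphism. -/
theorem not_aut_three_of
    (h : ∀ x y : G, orderOf x = 3 → orderOf y = 3 → ∃ w : G, w * x * w⁻¹ ∈ zpowers y) {L : Subgroup G} [hL : L.Normal] {F : Type} [Field F]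
    [Fintype F] (hF : Fintype.card F = 2 ^ 3)
    (e : L ≃* Matrix.ProjectiveSpecialLinearGroup (Fin 2) F) (hC : centralizer (L : Set G) = ⊥)
    (hcard : Nat.card G = 3 * Nat.card L) : False := by
  haveI : Fact (Nat.Prime 3) := ⟨Nat.prime_three⟩
  obtain ⟨hLc, -, hA⟩ := card_dvd_aut (L := L) (by norm_num : 2 ≤ 3) hF e hC
  have hbij : Function.Bijective (MulAut.conjNormal (H := L) : G →* MulAut L) :=
    (Nat.bijective_iff_injective_and_card _).2
      ⟨GW.Cons.conjNormal_injective hC, by rw [hcard, hA]⟩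
  obtain ⟨α, hα, hαi⟩ := exists_outer_three hF
  obtain ⟨g, hg⟩ := hbij.2 ((MulAut.congr e).symm α)
  have hgo : orderOf g = 3 := by
    rw [← orderOf_injective _ hbij.1 g, hg, MulEquiv.orderOf_eq, hα]
  have hgL : g ∉ L := fun hgL => hαi ⟨e ⟨g, hgL⟩, by
    have h1 : MulAut.congr e (MulAut.conjNormal g) = α := by rw [hg, MulEquiv.apply_symm_apply]
    rw [← h1]
    refine MulEquiv.ext fun x => ?_
    have hx : (MulAut.conjNormal g : MulAut L) (e.symm x) = ⟨g, hgL⟩ * e.symm x * (⟨g, hgL⟩ : L)⁻¹ :=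
      Subtype.ext (MulAut.conjNormal_apply g _)
    simp only [MulAut.congr_apply, MulEquiv.trans_apply, hx, map_mul, map_inv,
      MulEquiv.apply_symm_apply, MulAut.conj_apply]⟩
  obtain ⟨x, hx⟩ := exists_prime_orderOf_dvd_card' (G := L) 3 (by rw [hLc]; norm_num)
  have hxo : orderOf (x : G) = 3 := by rw [Subgroup.orderOf_coe, hx]
  obtain ⟨w, hm⟩ := h g (x : G) hgo hxo
  have := hL.conj_mem _ (zpowers_le.2 x.2 hm) w⁻¹
  exact hgL (by simpa [mul_assoc] using this)

/-- The same for groups in which subgroups of equal order are conjugate. -/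
theorem EqSub.not_aut_three (h : EqSub G) {L : Subgroup G} [hL : L.Normal] {F : Type} [Field F]
    [Fintype F] (hF : Fintype.card F = 2 ^ 3)
    (e : L ≃* Matrix.ProjectiveSpecialLinearGroup (Fin 2) F) (hC : centralizer (L : Set G) = ⊥)
    (hcard : Nat.card G = 3 * Nat.card L) : False :=
  not_aut_three_of (fun x y hx hy => by
    obtain ⟨w, hw⟩ := h (zpowers x) (zpowers y) (by rw [Nat.card_zpowers, Nat.card_zpowers, hx, hy])
    exact ⟨w, hw ▸ ⟨x, mem_zpowers x, rfl⟩⟩) hF e hC hcard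

/-- Sylow subgroups of order eight or more. -/
theorem EqSub.large_case (h : EqSub G) (hO : Cfsg.oddCore G = ⊥) (S : Sylow 2 G)
    (hc : ∀ a ∈ (S : Subgroup G), ∀ b ∈ (S : Subgroup G), a * b = b * a)
    (he : ∀ a ∈ (S : Subgroup G), a ^ 2 = 1) {n : ℕ} (hn : 3 ≤ n)
    (hcard : Nat.card (S : Subgroup G) = 2 ^ n) :
    Nonempty (G ≃* Cfsg.affineGroup (GaloisField 2 3)) ∨
    Nonempty (G ≃* Cfsg.semiaffineGroup (GaloisField 2 3)) ∨
    Nonempty (G ≃* Cfsg.semiaffineGroup (GaloisField 2 5)) ∨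
    Nonempty (G ≃* Matrix.ProjectiveSpecialLinearGroup (Fin 2) (GaloisField 2 3)) ∨
    Nonempty (G ≃* MulAut (Matrix.ProjectiveSpecialLinearGroup (Fin 2) (GaloisField 2 5))) := by
  classical
  haveI : Fact (Nat.Prime 2) := ⟨Nat.prime_two⟩
  obtain ⟨hn35, e, hep, hA, he5, hmodel⟩ := h.model S hc he hn hcard
  by_cases htop : normalizer ((S : Subgroup G) : Set G) = ⊤
  · let eN : ↥(normalizer ((S : Subgroup G) : Set G)) ≃* G :=
      (MulEquiv.subgroupCongr htop).trans Subgroup.topEquiv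
    have hbot : Cfsg.pPrimeCore 2 ↥(normalizer ((S : Subgroup G) : Set G)) = ⊥ := by
      have hmap : ((Cfsg.pPrimeCore 2 ↥(normalizer ((S : Subgroup G) : Set G))).map
          eN.toMonoidHom).Normal := Subgroup.Normal.map inferInstance _ eN.surjective
      have hle := hO ▸ Cores.le_oddCore (N := (Cfsg.pPrimeCore 2
        ↥(normalizer ((S : Subgroup G) : Set G))).map eN.toMonoidHom) (by
          rw [card_map_of_injective eN.injective]; exact Cores.oddCore_odd)
      exact (Subgroup.map_eq_bot_iff_of_injective _ eN.injective).1 (le_bot_iff.1 hle)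
    let eG : G ≃* ↥(normalizer ((S : Subgroup G) : Set G)) ⧸
        Cfsg.pPrimeCore 2 ↥(normalizer ((S : Subgroup G) : Set G)) :=
      eN.symm.trans (QuotientGroup.quotientBot.symm.trans (QuotientGroup.quotientMulEquivOfEq hbot.symm))
    rcases hmodel with ⟨-, ⟨f⟩⟩ | ⟨-, ⟨f⟩⟩ | ⟨-, ⟨f⟩⟩
    · exact Or.inr (Or.inl ⟨eG.trans f⟩)
    · exact Or.inl ⟨eG.trans f⟩
    · exact Or.inr (Or.inr (Or.inl ⟨eG.trans f⟩))
  have hne : (S : Subgroup G) ≠ ⊥ := fun e' => by
    rw [e', Subgroup.card_bot] at hcard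
    exact absurd hcard.symm (Nat.ne_of_gt (Nat.one_lt_two_pow (by omega)))
  have hp : (2 ^ n - 1).Prime := by rcases hn35 with rfl | rfl <;> norm_num
  have hodd : Odd (2 ^ n - 1) := by rcases hn35 with rfl | rfl <;> decide
  have hS : Nat.card (S : Subgroup G) = 2 ^ n - 1 + 1 := by
    rw [hcard]; exact (Nat.sub_add_cancel Nat.one_le_two_pow).symm
  have P := pts h S hc he hne htop hp hodd hS hA hep
  obtain ⟨L, hLn, F, hf, hfin, hF, ⟨eL⟩, hCL⟩ :=
    P.identify (by rcases hn35 with rfl | rfl <;> norm_num) hO S hc he (by omega) hcard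
      ((1 : G) : G ⧸ normalizer ((S : Subgroup G) : Set G))
  haveI := hLn
  obtain ⟨hLc, hGd, hAut⟩ := card_dvd_aut (L := L) (by omega : 2 ≤ n) hF eL hCL
  obtain ⟨j, hj⟩ := L.card_subgroup_dvd_card
  have hjd : j ∣ n := Nat.dvd_of_mul_dvd_mul_right Nat.card_pos (by
    rw [hj, mul_comm (Nat.card L)] at hGd; exact hGd)
  rcases hn35 with rfl | rfl
  · -- order eight
    rcases (Nat.dvd_prime Nat.prime_three).1 hjd with rfl | rfl
    · have hLtop : L = ⊤ := L.eq_top_of_card_eq (by rw [hj, mul_one])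
      subst hLtop
      letI := Fintype.ofFinite (GaloisField 2 3)
      let r : F ≃+* GaloisField 2 3 := FiniteField.ringEquivOfCardEq (by
        rw [hF, ← Nat.card_eq_fintype_card, GaloisField.card 2 3 (by norm_num)])
      exact Or.inr (Or.inr (Or.inr (Or.inl
        ⟨(Subgroup.topEquiv.symm.trans eL).trans (Classical.SmallIso.pslCongr r)⟩)))
    · exact (h.not_aut_three hF eL hCL (by rw [hj, mul_comm])).elim
  · -- order thirty-two
    rcases (Nat.dvd_prime Nat.prime_five).1 hjd with rfl | rfl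
    · exfalso
      have h5 : 5 ∣ Nat.card L := by
        rw [show Nat.card L = Nat.card G by rw [hj, mul_one]]
        refine dvd_trans ?_ (normalizer ((S : Subgroup G) : Set G)).card_subgroup_dvd_card
        rw [← hA, he5 rfl]
        exact Dvd.dvd.mul_left (dvd_mul_left 5 _) _
      rw [hLc] at h5
      norm_num at h5
    · letI := Fintype.ofFinite (GaloisField 2 5)
      let r : F ≃+* GaloisField 2 5 := FiniteField.ringEquivOfCardEq (by
        rw [hF, ← Nat.card_eq_fintype_card, GaloisField.card 2 5 (by norm_num)])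
      have hbij : Function.Bijective (MulAut.conjNormal (H := L) : G →* MulAut L) :=
        (Nat.bijective_iff_injective_and_card _).2
          ⟨GW.Cons.conjNormal_injective hCL, by rw [hAut, hj, mul_comm]⟩
      exact Or.inr (Or.inr (Or.inr (Or.inr ⟨(MulEquiv.ofBijective _ hbij).trans
        (MulAut.congr (eL.trans (Classical.SmallIso.pslCongr r)))⟩)))

end Cfsg.Agent.EqSubConj
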