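import Mathlib
import Cfsg.Prelude.Def_Involutions
import Cfsg.Agent.Lib.Involutions.Basic
import Cfsg.Agent.Lib.Involutions.BaerSuzuki
import Cfsg.Agent.Lib.EqualOrderConj.Basic
import Cfsg.Agent.Lib.Cores.Basic
import Cfsg.Agent.Lib.Transfer.Fusion

/-!
# Groups in which any two subgroups of equal order are conjugate: first consequences

No element of odd order other than `1` is centralized by one involution and inverted by another one
(a cyclic group of order `2d` against a dihedral one), hence an elementary abelian Sylow `2`-subgroup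
is normal in the centralizer of each of its involutions.
-/

set_option autoImplicit false

namespace Cfsg.Agent.EqSubConj

open Subgroup Involutions.Basic

universe u

/-- Any two subgroups of the same order are conjugate. -/
def EqSub (G : Type*) [Group G] : Prop :=
  ∀ H K : Subgroup G, Nat.card H = Nat.card K → ∃ g : G, K = H.map (MulAut.conj g).toMonoidHom

variable {G : Type u} [Group G] [Finite G]

theorem EqSub.eqConj (h : EqSub G) (p : ℕ) : EqualOrderConj.EqConj p G :=
  fun H K _ _ e => h H K e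

theorem EqSub.quotient (h : EqSub G) (N : Subgroup G) [N.Normal] : EqSub (G ⧸ N) := by
  intro H K e
  obtain ⟨g, hg⟩ := h (H.comap (QuotientGroup.mk' N)) (K.comap (QuotientGroup.mk' N))
    (by rw [Cores.card_comap_mk', Cores.card_comap_mk', e])
  refine ⟨QuotientGroup.mk' N g, ?_⟩
  have hs := QuotientGroup.mk'_surjective N
  calc K = (K.comap (QuotientGroup.mk' N)).map (QuotientGroup.mk' N) :=
        (Subgroup.map_comap_eq_self_of_surjective hs K).symm
    _ = ((H.comap (QuotientGroup.mk' N)).map (QuotientGroup.mk' N)).map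
          (MulAut.conj (QuotientGroup.mk' N g)).toMonoidHom := by
        rw [hg, Subgroup.map_map, Subgroup.map_map]
        congr 1
    _ = _ := by rw [Subgroup.map_comap_eq_self_of_surjective hs H]

/-- A cyclic and a dihedral group of the same order are not conjugate. -/
theorem EqSub.no_mixed (h : EqSub G) {w s v : G} (hw : Odd (orderOf w)) (hs : orderOf s = 2)
    (hsw : Commute s w) (hv : orderOf v = 2) (hvw : v * w * v⁻¹ = w⁻¹) : w = 1 := by
  by_contra hw1
  have hvn : zpowers v ≤ normalizer (zpowers w : Set G) := by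
    rw [zpowers_le]
    refine EqualOrderConj.mem_normalizer_of_conj_mem fun a ha => ?_
    obtain ⟨k, rfl⟩ := mem_zpowers_iff.1 ha
    rw [← conj_zpow, hvw]
    exact zpow_mem (inv_mem (mem_zpowers w)) k
  have hcop : (Nat.card (zpowers w)).Coprime (Nat.card (zpowers v)) := by
    rw [Nat.card_zpowers, Nat.card_zpowers, hv]
    exact Nat.coprime_two_right.2 hw
  have hcard : Nat.card ↥(zpowers w ⊔ zpowers v) = Nat.card (zpowers (s * w)) := by
    rw [Coprime.card_sup_of_coprime hvn hcop, Nat.card_zpowers, Nat.card_zpowers, Nat.card_zpowers,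
      hv, hsw.orderOf_mul_eq_mul_orderOf_of_coprime (by rw [hs]; exact Nat.coprime_two_left.2 hw),
      hs, mul_comm]
  obtain ⟨g, hg⟩ := h _ _ hcard
  have hcomm : v * w = w * v := by
    have hv' : g * v * g⁻¹ ∈ zpowers (s * w) :=
      hg ▸ ⟨v, le_sup_right (a := zpowers w) (mem_zpowers v), rfl⟩
    have hw' : g * w * g⁻¹ ∈ zpowers (s * w) :=
      hg ▸ ⟨w, le_sup_left (b := zpowers v) (mem_zpowers w), rfl⟩
    obtain ⟨i, hi⟩ := mem_zpowers_iff.1 hv'
    obtain ⟨j, hj⟩ := mem_zpowers_iff.1 hw'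
    have e : (g * v * g⁻¹) * (g * w * g⁻¹) = (g * w * g⁻¹) * (g * v * g⁻¹) := by
      rw [← hi, ← hj, ← zpow_add, ← zpow_add, add_comm]
    calc v * w = g⁻¹ * ((g * v * g⁻¹) * (g * w * g⁻¹)) * g := by group
      _ = g⁻¹ * ((g * w * g⁻¹) * (g * v * g⁻¹)) * g := by rw [e]
      _ = w * v := by group
  have hw2 : w = w⁻¹ := by
    rw [← hvw, hcomm, mul_inv_cancel_right]
  have hd : orderOf w ∣ 2 := by
    rw [orderOf_dvd_iff_pow_eq_one, pow_two]
    nth_rw 2 [hw2]
    exact mul_inv_cancel w
  exact hw1 (orderOf_eq_one_iff.1 (Nat.eq_one_of_dvd_coprimes (Nat.coprime_two_right.2 hw) dvd_rfl hd))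

/-- An involution centralizes every subgroup of odd order that it normalizes, provided each element
of that subgroup commutes with some involution. -/
theorem EqSub.commute_of_mixed (h : EqSub G) {R : Subgroup G} {v : G} (hodd : Odd (Nat.card R))
    (hv : orderOf v = 2) (hnorm : ∀ x ∈ R, v * x * v⁻¹ ∈ R)
    (hcent : ∀ x ∈ R, ∃ s : G, orderOf s = 2 ∧ Commute s x) {x : G} (hx : x ∈ R) :
    Commute v x := by
  have hc : x⁻¹ * (v * x * v⁻¹) ∈ R := mul_mem (inv_mem hx) (hnorm x hx)
  obtain ⟨s, hs, hsc⟩ := hcent _ hc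
  have hvi := inv_eq hv
  have h1 := h.no_mixed (hodd.of_dvd_nat (R.orderOf_dvd_natCard hc)) hs hsc hv (by
    simp only [hvi, mul_inv_rev, inv_inv, mul_assoc, inv_sq_one hv, mul_one])
  rw [inv_mul_eq_one, eq_mul_inv_iff_mul_eq] at h1
  exact h1.symm

theorem exists_involution {S : Subgroup G} (hne : S ≠ ⊥) (he : ∀ a ∈ S, a ^ 2 = 1) :
    ∃ t ∈ S, orderOf t = 2 := by
  obtain ⟨t, ht, h1⟩ : ∃ t ∈ S, t ≠ 1 := by
    by_contra hh
    push Not at hh
    exact hne ((Subgroup.eq_bot_iff_forall _).2 hh)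
  exact ⟨t, ht, orderOf_two_iff.2 ⟨by rw [← pow_two]; exact he t ht, h1⟩⟩

/-- An elementary abelian Sylow `2`-subgroup is normal in the centralizers of its involutions. -/
theorem EqSub.centralizer_le_normalizer (h : EqSub G) (S : Sylow 2 G)
    (hc : ∀ a ∈ (S : Subgroup G), ∀ b ∈ (S : Subgroup G), a * b = b * a)
    (he : ∀ a ∈ (S : Subgroup G), a ^ 2 = 1) {t : G} (htS : t ∈ (S : Subgroup G))
    (ht : orderOf t = 2) :
    Subgroup.centralizer ({t} : Set G) ≤ normalizer ((S : Subgroup G) : Set G) := by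
  haveI : Fact (Nat.Prime 2) := ⟨Nat.prime_two⟩
  set C := Subgroup.centralizer ({t} : Set G) with hC
  have hSC : (S : Subgroup G) ≤ C := fun a ha =>
    mem_centralizer_singleton_iff.2 (hc a ha t htS)
  have hinv : ∀ s : C, orderOf s = 2 → s ∈ Cfsg.pCore 2 C := by
    intro s hs
    by_contra hns
    obtain ⟨w, hw1, hwodd, hsw⟩ := Involutions.BaerSuzuki.exists_inverted_odd s hs
      fun N hN hN2 hsN => hns (by haveI := hN; exact Cores.le_pCore hN2 hsN)
    refine hw1 (Subtype.ext (h.no_mixed (w := (w : G)) (s := t) (v := (s : G)) ?_ ht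
      (show t * w = w * t from (mem_centralizer_singleton_iff.1 w.2).symm) ?_ ?_))
    · rwa [Subgroup.orderOf_coe]
    · rwa [Subgroup.orderOf_coe]
    · simpa using congrArg Subtype.val hsw
  let S' : Sylow 2 C := S.subtype hSC
  have hle : (S' : Subgroup C) ≤ Cfsg.pCore 2 C := by
    intro a ha
    by_cases ha1 : a = 1
    · rw [ha1]; exact one_mem _
    refine hinv a ?_
    rw [← Subgroup.orderOf_coe]
    exact orderOf_two_iff.2 ⟨by rw [← pow_two]; exact he _ ha, fun e => ha1 (Subtype.ext e)⟩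
  have heq : (S' : Subgroup C) = Cfsg.pCore 2 C := le_antisymm hle (Cores.pCore_le_sylow S')
  haveI : (S' : Subgroup C).Normal := by
    rw [heq]; infer_instance
  intro g hg
  refine EqualOrderConj.mem_normalizer_of_conj_mem fun a ha => ?_
  exact (inferInstance : (S' : Subgroup C).Normal).conj_mem ⟨a, hSC ha⟩ ha ⟨g, hg⟩

/-- The normalizer of an abelian Sylow `2`-subgroup is transitive on its involutions. -/
theorem EqSub.transitive (h : EqSub G) (S : Sylow 2 G)
    (hc : ∀ a ∈ (S : Subgroup G), ∀ b ∈ (S : Subgroup G), a * b = b * a) {s t : G}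
    (hsS : s ∈ (S : Subgroup G)) (htS : t ∈ (S : Subgroup G)) (hs : orderOf s = 2)
    (ht : orderOf t = 2) :
    ∃ n ∈ normalizer ((S : Subgroup G) : Set G), n * s * n⁻¹ = t := by
  haveI : Fact (Nat.Prime 2) := ⟨Nat.prime_two⟩
  obtain ⟨g, hg⟩ := h (zpowers s) (zpowers t) (by rw [Nat.card_zpowers, Nat.card_zpowers, hs, ht])
  have hgs : g * s * g⁻¹ = t := by
    have hm : g * s * g⁻¹ ∈ zpowers t := hg ▸ ⟨s, mem_zpowers s, rfl⟩
    have hm2 : orderOf (g * s * g⁻¹) = 2 := by rw [orderOf_conj, hs]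
    have htt : (t : G) ^ 2 = 1 := by rw [← ht]; exact pow_orderOf_eq_one t
    obtain ⟨i, hi⟩ := mem_zpowers_iff.1 hm
    rcases Int.even_or_odd' i with ⟨k, rfl | rfl⟩
    · rw [zpow_mul, show (t : G) ^ (2 : ℤ) = 1 by exact_mod_cast htt, one_zpow] at hi
      exact absurd hi.symm (ne_one hm2)
    · rw [zpow_add, zpow_mul, show (t : G) ^ (2 : ℤ) = 1 by exact_mod_cast htt, one_zpow, one_mul,
        zpow_one] at hi
      exact hi.symm
  have hfix : ∀ {y : G}, y ∈ (S : Subgroup G) → ∀ x ∈ (S : Subgroup G),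
      (fun z => x * z * x⁻¹) '' ({y} : Set G) = {y} := fun {y} hy x hx => by
    rw [Set.image_singleton, hc x hx y hy, mul_inv_cancel_right]
  obtain ⟨n, hn, hns⟩ := Transfer.Fusion.burnside_fusion_set S (hfix hsS) (hfix htS) (g := g)
    (by rw [Set.image_singleton, hgs])
  rw [Set.image_singleton, Set.singleton_eq_singleton_iff] at hns
  exact ⟨n, hn, hns⟩

end Cfsg.Agent.EqSubConj
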