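import Cfsg.Agent.Lib.EqSubConj.Small
import Cfsg.Agent.Lib.EqSubConj.Large

/-!
# Groups in which any two subgroups of equal order are conjugate
-/

set_option autoImplicit false

namespace Cfsg.Agent.EqSubConj

open Subgroup

universe u

/-- The groups without odd core in which any two subgroups of equal order are conjugate. -/
theorem EqSub.classify {G : Type u} [Group G] [Finite G] (h : EqSub G) (hO : Cfsg.oddCore G = ⊥) :
    (IsCyclic G ∧ IsPGroup 2 G) ∨
    Nonempty (G ≃* Cfsg.affineGroup (GaloisField 2 3)) ∨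
    Nonempty (G ≃* Cfsg.semiaffineGroup (GaloisField 2 3)) ∨
    Nonempty (G ≃* Cfsg.semiaffineGroup (GaloisField 2 5)) ∨
    Nonempty (G ≃* Matrix.ProjectiveSpecialLinearGroup (Fin 2) (GaloisField 2 3)) ∨
    Nonempty (G ≃* MulAut (Matrix.ProjectiveSpecialLinearGroup (Fin 2) (GaloisField 2 5))) ∨
    Nonempty (G ≃* alternatingGroup (Fin 4)) ∨
    Nonempty (G ≃* alternatingGroup (Fin 5)) ∨
    Nonempty (G ≃* Matrix.SpecialLinearGroup (Fin 2) (ZMod 3)) ∨
    Nonempty (G ≃* Matrix.SpecialLinearGroup (Fin 2) (ZMod 5)) := by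
  haveI : Fact (Nat.Prime 2) := ⟨Nat.prime_two⟩
  obtain ⟨S⟩ : Nonempty (Sylow 2 G) := inferInstance
  rcases EqualOrderConj.two_structure (h.eqConj 2) S.2 with hcyc | ⟨hcomm, he⟩ | ⟨⟨e⟩⟩
  · exact Or.inl (cyclic_case hO S hcyc)
  · have hc : ∀ a ∈ (S : Subgroup G), ∀ b ∈ (S : Subgroup G), a * b = b * a := fun a ha b hb =>
      congrArg Subtype.val (hcomm.is_comm.comm ⟨a, ha⟩ ⟨b, hb⟩)
    obtain ⟨n, hn⟩ := S.2.exists_card_eq
    match n, hn with
    | 0, hn =>
      haveI : Subsingleton (S : Subgroup G) := (Nat.card_eq_one_iff_unique.1 (by rw [hn, pow_zero])).1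
      exact Or.inl (cyclic_case hO S inferInstance)
    | 1, hn => exact Or.inl (cyclic_case hO S (isCyclic_of_prime_card (by rw [hn, pow_one])))
    | 2, hn =>
      rcases h.four_case hO S hc he (by rw [hn]; rfl) with h4 | h5
      · exact Or.inr (Or.inr (Or.inr (Or.inr (Or.inr (Or.inr (Or.inl h4))))))
      · exact Or.inr (Or.inr (Or.inr (Or.inr (Or.inr (Or.inr (Or.inr (Or.inl h5)))))))
    | n + 3, hn =>
      rcases h.large_case hO S hc he (Nat.le_add_left 3 n) hn with h1 | h1 | h1 | h1 | h1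
      · exact Or.inr (Or.inl h1)
      · exact Or.inr (Or.inr (Or.inl h1))
      · exact Or.inr (Or.inr (Or.inr (Or.inl h1)))
      · exact Or.inr (Or.inr (Or.inr (Or.inr (Or.inl h1))))
      · exact Or.inr (Or.inr (Or.inr (Or.inr (Or.inr (Or.inl h1)))))
  · rcases h.quaternion_case hO S e with h3 | h5
    · exact Or.inr (Or.inr (Or.inr (Or.inr (Or.inr (Or.inr (Or.inr (Or.inr (Or.inl h3))))))))
    · exact Or.inr (Or.inr (Or.inr (Or.inr (Or.inr (Or.inr (Or.inr (Or.inr (Or.inr h5))))))))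

end Cfsg.Agent.EqSubConj
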