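import Cfsg.Agent.Lib.EqSubConj.Points
import Cfsg.Agent.Lib.Involutions.StronglyEmbedded

/-!
# The point set of a group with elementary abelian Sylow `2`-subgroup

The axioms of `Pts` for the cosets of the normalizer `M` of the Sylow subgroup `S`, provided
`|S| = p + 1` and `[M : C(S)] = p * e` with `p` prime and `e < p`.
-/

set_option autoImplicit false
set_option linter.style.haveILetI false

namespace Cfsg.Agent.EqSubConj

open Subgroup MulAction Involutions.Basic

universe u

variable {G : Type u} [Group G] [Finite G]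

theorem two_pow_sq {S : Sylow 2 G} (he : ∀ a ∈ (S : Subgroup G), a ^ 2 = 1) :
    ∀ x : G, ∀ k : ℕ, x ^ 2 ^ k = 1 → x ^ 2 = 1 := by
  intro x k hk
  haveI : Fact (Nat.Prime 2) := ⟨Nat.prime_two⟩
  have hp : IsPGroup 2 (zpowers x) := by
    obtain ⟨j, -, hj⟩ := (Nat.dvd_prime_pow Nat.prime_two).1 (orderOf_dvd_of_pow_eq_one hk)
    exact IsPGroup.of_card (n := j) (by rw [Nat.card_zpowers, hj])
  obtain ⟨T, hT⟩ := hp.exists_le_sylow
  obtain ⟨g, rfl⟩ := MulAction.exists_smul_eq G S T
  have h2 := he _ (Transfer.Fusion.mem_smul_sylow_iff.1 (hT (mem_zpowers x)))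
  have e : (g⁻¹ * x * g) ^ 2 = g⁻¹ * x ^ 2 * g := by rw [pow_two, pow_two]; group
  calc x ^ 2 = g * (g⁻¹ * x ^ 2 * g) * g⁻¹ := by group
    _ = 1 := by rw [← e, h2, mul_one, mul_inv_cancel]

/-- The involutions in the normalizer of an elementary abelian Sylow subgroup lie in it. -/
theorem involution_mem {S : Sylow 2 G} {s : G}
    (hs : s ∈ normalizer ((S : Subgroup G) : Set G)) (h2 : orderOf s = 2) : s ∈ (S : Subgroup G) := by
  haveI : Fact (Nat.Prime 2) := ⟨Nat.prime_two⟩
  have hp : IsPGroup 2 (zpowers s) := IsPGroup.of_card (n := 1) (by rw [Nat.card_zpowers, h2, pow_one])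
  have hn : zpowers s ≤ normalizer ((S : Subgroup G) : Set G) := zpowers_le.2 hs
  have hj := hp.to_sup_of_normal_right' S.2 hn
  exact S.3 hj le_sup_right ▸ (mem_sup_left (mem_zpowers s) : s ∈ zpowers s ⊔ (S : Subgroup G))

theorem strongly (h : EqSub G) (S : Sylow 2 G)
    (hc : ∀ a ∈ (S : Subgroup G), ∀ b ∈ (S : Subgroup G), a * b = b * a)
    (he : ∀ a ∈ (S : Subgroup G), a ^ 2 = 1) (hne : (S : Subgroup G) ≠ ⊥)
    (htop : normalizer ((S : Subgroup G) : Set G) ≠ ⊤) :
    Cfsg.IsStronglyEmbedded (normalizer ((S : Subgroup G) : Set G)) := by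
  refine Involutions.StronglyEmbedded.of_conj htop ?_ fun t ht h2 g hg => ?_
  · obtain ⟨t, ht, h2⟩ := exists_involution hne he
    have h3 := orderOf_dvd_natCard (⟨t, le_normalizer ht⟩ : normalizer ((S : Subgroup G) : Set G))
    rw [Subgroup.orderOf_mk, h2] at h3
    exact even_iff_two_dvd.2 h3
  · have htS := involution_mem ht h2
    have hgS := involution_mem hg (by rw [orderOf_conj, h2])
    obtain ⟨n, hn, hnt⟩ := h.transitive S hc htS hgS h2 (by rw [orderOf_conj, h2])
    have hcm : n⁻¹ * g ∈ Subgroup.centralizer ({t} : Set G) := mem_centralizer_singleton_iff.2 (by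
      calc n⁻¹ * g * t = n⁻¹ * (g * t * g⁻¹) * g := by group
        _ = n⁻¹ * (n * t * n⁻¹) * g := by rw [hnt]
        _ = t * (n⁻¹ * g) := by group)
    have := mul_mem hn (h.centralizer_le_normalizer S hc he htS h2 hcm)
    rwa [mul_inv_cancel_left] at this

/-- The point set. -/
theorem pts (h : EqSub G) (S : Sylow 2 G)
    (hc : ∀ a ∈ (S : Subgroup G), ∀ b ∈ (S : Subgroup G), a * b = b * a)
    (he : ∀ a ∈ (S : Subgroup G), a ^ 2 = 1) (hne : (S : Subgroup G) ≠ ⊥)
    (htop : normalizer ((S : Subgroup G) : Set G) ≠ ⊤) {p e : ℕ} (hp : p.Prime) (hodd : Odd p)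
    (hS : Nat.card (S : Subgroup G) = p + 1)
    (hA : Nat.card ↥(Subgroup.centralizer ((S : Subgroup G) : Set G)) * (p * e) =
      Nat.card ↥(normalizer ((S : Subgroup G) : Set G))) (hep : e < p) :
    Pts G (G ⧸ normalizer ((S : Subgroup G) : Set G)) p := by
  classical
  haveI : Fact p.Prime := ⟨hp⟩
  set M := normalizer ((S : Subgroup G) : Set G) with hM
  have hH := strongly h S hc he hne htop
  set Cc := Subgroup.centralizer ((S : Subgroup G) : Set G) with hCc
  have hCM : Cc ≤ M := Subgroup.centralizer_le_normalizer _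
  set o : G ⧸ M := ((1 : G) : G ⧸ M) with ho
  have hstab : ∀ x : G, x • o = o ↔ x ∈ M := fun x => by
    rw [← MulAction.mem_stabilizer_iff, ho, stabilizer_quotient]
  have hfix : ∀ s : G, orderOf s = 2 → (s • o = o ↔ s ∈ (S : Subgroup G)) := fun s hs =>
    ⟨fun e' => involution_mem ((hstab s).1 e') hs, fun e' => (hstab s).2 (le_normalizer e')⟩
  have hcen : Cen G o = Cc := by
    ext x
    rw [mem_cen, hCc, mem_centralizer_iff]
    constructor
    · intro hx y hy
      by_cases hy1 : y = 1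
      · rw [hy1, one_mul, mul_one]
      have hy2 : orderOf y = 2 := orderOf_two_iff.2 ⟨by rw [← pow_two]; exact he y hy, hy1⟩
      exact (hx y hy2 ((hfix y hy2).2 hy)).eq
    · intro hx s hs hso
      exact hx s ((hfix s hs).1 hso)
  haveI hCn : (Cc.subgroupOf M).Normal := ⟨fun x hx g => by
    rw [mem_subgroupOf, hCc, mem_centralizer_iff] at hx ⊢
    intro y hy
    have hy' : (g : G)⁻¹ * y * g ∈ (S : Subgroup G) := by
      have := (mem_normalizer_iff.1 (inv_mem g.2) y).1 hy
      rwa [inv_inv] at this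
    push_cast
    calc y * ((g : G) * x * (g : G)⁻¹) = g * ((g : G)⁻¹ * y * g * x) * (g : G)⁻¹ := by group
      _ = g * (x * ((g : G)⁻¹ * y * g)) * (g : G)⁻¹ := by rw [hx _ hy']
      _ = g * x * (g : G)⁻¹ * y := by group⟩
  have hQcard : Nat.card (M ⧸ Cc.subgroupOf M) = p * e := by
    have h1 := Subgroup.card_eq_card_quotient_mul_card_subgroup (Cc.subgroupOf M)
    rw [Nat.card_congr (subgroupOfEquivOfLe hCM).toEquiv, ← hA, mul_comm] at h1
    exact (Nat.eq_of_mul_eq_mul_right Nat.card_pos h1).symm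
  have hnot : ¬ p ^ 2 ∣ p * e := by
    intro hd
    rw [pow_two] at hd
    have h2 := Nat.dvd_of_mul_dvd_mul_left hp.pos hd
    rcases Nat.eq_zero_or_pos e with h0 | h0
    · have := hA
      rw [h0, mul_zero, mul_zero] at this
      exact Nat.card_pos.ne this
    · exact absurd (Nat.le_of_dvd h0 h2) (by omega)
  -- image of an element in `M / C(S)`
  let im : ∀ x : G, x ∈ M → M ⧸ Cc.subgroupOf M := fun x hx => QuotientGroup.mk' _ ⟨x, hx⟩
  have him : ∀ x : G, ∀ hx : x ∈ M, im x hx = 1 ↔ x ∈ Cc := fun x hx => by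
    simp only [im, QuotientGroup.mk'_apply, QuotientGroup.eq_one_iff, mem_subgroupOf]
  have himp : ∀ x : G, ∀ hx : x ∈ M, (∃ k, orderOf x = p ^ k) → (im x hx) ^ p = 1 := by
    rintro x hx ⟨k, hk⟩
    have hd : orderOf (im x hx) ∣ p ^ k := by
      refine (orderOf_map_dvd _ _).trans ?_
      rw [Subgroup.orderOf_mk, hk]
    obtain ⟨j, -, hj⟩ := (Nat.dvd_prime_pow hp).1 hd
    have hj2 : j ≤ 1 := by
      by_contra hj1
      refine hnot ((pow_dvd_pow p (show 2 ≤ j by omega)).trans ?_)
      rw [← hj, ← hQcard]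
      exact orderOf_dvd_natCard _
    rw [← orderOf_dvd_iff_pow_eq_one, hj]
    exact (pow_dvd_pow p hj2).trans (pow_one p).dvd
  -- the involutions of `S`
  let T := {s : G // s ∈ (S : Subgroup G) ∧ s ≠ 1}
  have hTcard : Nat.card T = p := by
    have e1 : T ≃ {s : (S : Subgroup G) // s ≠ 1} :=
      { toFun := fun s => ⟨⟨s.1, s.2.1⟩, fun e' => s.2.2 (congrArg Subtype.val e' :)⟩
        invFun := fun s => ⟨s.1.1, s.1.2, fun e' => s.2 (Subtype.ext e')⟩
        left_inv := fun s => rfl
        right_inv := fun s => rfl }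
    haveI := Fintype.ofFinite (S : Subgroup G)
    rw [Nat.card_congr e1, Nat.card_eq_fintype_card, Fintype.card_subtype_compl,
      Fintype.card_subtype_eq, ← Nat.card_eq_fintype_card, hS]
    omega
  have hT2 : ∀ s : T, orderOf (s : G) = 2 := fun s =>
    orderOf_two_iff.2 ⟨by rw [← pow_two]; exact he _ s.2.1, s.2.2⟩
  -- transport to the base point
  have hbase : ∀ X : G ⧸ M, ∃ g : G, g • o = X := fun X => exists_smul_eq G o X
  have hconj_fix : ∀ {X : G ⧸ M} {g x : G}, g • o = X → x • X = X → g⁻¹ * x * g ∈ M :=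
    fun {X g x} hg hx => (hstab _).1 (by rw [mul_smul, mul_smul, hg, hx, ← hg, inv_smul_smul])
  have hord : ∀ g x : G, orderOf (g⁻¹ * x * g) = orderOf x := fun g x => by
    simpa using orderOf_conj g⁻¹ x
  have hback : ∀ {X : G ⧸ M} {g x : G}, g • o = X → g⁻¹ * x * g ∈ Cc → x ∈ Cen G X := by
    intro X g x hg hx
    have := conj_mem_cen g (X := o) (hcen ▸ hx)
    rw [hg] at this
    simpa [mul_assoc] using this
  refine
    { eqSub := h
      prime := hp
      odd := hodd
      two := ?_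
      inv := ?_
      unique := fun hs => Involutions.StronglyEmbedded.existsUnique_fixed hH hs
      swap := ?_
      comm := ?_
      odd_two := ?_
      orbit := ?_
      pcomm := ?_
      moved := ?_
      ppow := ?_
      pgen := ?_ }
  · intro X
    obtain ⟨u, hu, -⟩ := Involutions.StronglyEmbedded.exists_involution_notMem hH
    obtain ⟨g, rfl⟩ := hbase X
    exact ⟨(g * u) • o, fun e' => hu ((hstab u).1 (by rwa [mul_smul, smul_left_cancel_iff] at e'))⟩
  · intro X
    obtain ⟨g, rfl⟩ := hbase X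
    obtain ⟨t, ht, h2⟩ := exists_involution hne he
    refine ⟨g * t * g⁻¹, by rw [orderOf_conj, h2], ?_⟩
    rw [mul_smul, mul_smul, inv_smul_smul, (hfix t h2).2 ht]
  · intro X Y hXY
    have hc1 := Involutions.StronglyEmbedded.card_swap hH X Y hXY
    obtain ⟨t, ht, h2⟩ := exists_involution hne he
    have hpos : 0 < Nat.card {t : G // orderOf t = 2 ∧ t ∈ M} :=
      Nat.card_pos_iff.2 ⟨⟨⟨t, h2, le_normalizer ht⟩⟩, inferInstance⟩
    rw [← hc1] at hpos
    obtain ⟨⟨v, hv, hvX⟩⟩ := (Nat.card_pos_iff.1 hpos).1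
    exact ⟨v, hv, hvX, by rw [← hvX, ← mul_smul, inv_sq_one hv, one_smul]⟩
  · intro X s t hs hsX ht htX
    obtain ⟨g, hg⟩ := hbase X
    have hs' := involution_mem (hconj_fix hg hsX) ((hord g s).trans hs)
    have ht' := involution_mem (hconj_fix hg htX) ((hord g t).trans ht)
    have := hc _ hs' _ ht'
    show s * t = t * s
    calc s * t = g * ((g⁻¹ * s * g) * (g⁻¹ * t * g)) * g⁻¹ := by group
      _ = g * ((g⁻¹ * t * g) * (g⁻¹ * s * g)) * g⁻¹ := by rw [this]
      _ = t * s := by group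
  · intro X Y hXY
    by_contra ho'
    rw [Nat.not_odd_iff_even] at ho'
    obtain ⟨s, hs, h2⟩ := Involutions.StronglyEmbedded.exists_involution_mem ho'
    exact hXY ((Involutions.StronglyEmbedded.existsUnique_fixed hH h2).unique hs.1 hs.2)
  · intro X x hxX hx hxp
    obtain ⟨g, hg⟩ := hbase X
    have hxM := hconj_fix hg hxX
    set y := g⁻¹ * x * g with hy
    haveI : Fact (orderOf x).Prime := ⟨hx⟩
    have hact : ∀ (m : zpowers y) (s : T),
        (m : G) * s * (m : G)⁻¹ ∈ (S : Subgroup G) ∧ (m : G) * s * (m : G)⁻¹ ≠ 1 := fun m s => by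
      refine ⟨(mem_normalizer_iff.1 ((zpowers_le.2 hxM) m.2) _).1 s.2.1, fun e' => s.2.2 ?_⟩
      rw [mul_inv_eq_one, mul_eq_left] at e'
      exact e'
    letI : MulAction (zpowers y) T :=
      { smul := fun m s => ⟨(m : G) * s * (m : G)⁻¹, hact m s⟩
        one_smul := fun s => Subtype.ext
          (show ((1 : zpowers y) : G) * (s : G) * ((1 : zpowers y) : G)⁻¹ = s by simp)
        mul_smul := fun m n s => Subtype.ext
          (show ((m * n : zpowers y) : G) * (s : G) * ((m * n : zpowers y) : G)⁻¹ =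
            (m : G) * ((n : G) * (s : G) * (n : G)⁻¹) * (m : G)⁻¹ by simp [mul_assoc]) }
    have hpy : IsPGroup (orderOf x) (zpowers y) :=
      IsPGroup.of_card (n := 1) (by rw [Nat.card_zpowers, hy, hord, pow_one])
    have hnd : ¬ orderOf x ∣ Nat.card T := by
      rw [hTcard, Nat.prime_dvd_prime_iff_eq hx hp]; exact hxp
    obtain ⟨s, hsfix⟩ := hpy.nonempty_fixed_point_of_prime_not_dvd_card T hnd
    have hsy : y * (s : G) * y⁻¹ = s := congrArg Subtype.val (hsfix ⟨y, mem_zpowers y⟩)
    refine ⟨g * s * g⁻¹, by rw [orderOf_conj, hT2], ?_, ?_⟩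
    · rw [← hg, mul_smul, mul_smul, inv_smul_smul, (hfix _ (hT2 s)).2 s.2.1]
    · have e1 : (s : G) * y = y * s := (mul_inv_eq_iff_eq_mul.1 hsy).symm
      show g * s * g⁻¹ * x = x * (g * s * g⁻¹)
      calc g * s * g⁻¹ * x = g * ((s : G) * y) * g⁻¹ := by rw [hy]; group
        _ = g * (y * s) * g⁻¹ := by rw [e1]
        _ = x * (g * s * g⁻¹) := by rw [hy]; group
  · intro X x s hxX hxp hs hsX hsx
    obtain ⟨g, hg⟩ := hbase X
    refine hback hg ?_
    set y := g⁻¹ * x * g with hy
    have hyM : y ∈ M := hconj_fix hg hxX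
    set t := g⁻¹ * s * g with ht
    have htS : t ∈ (S : Subgroup G) := involution_mem (hconj_fix hg hsX) ((hord g s).trans hs)
    have ht2 : orderOf t = 2 := (hord g s).trans hs
    have hty : Commute y t := by
      show y * t = t * y
      calc y * t = g⁻¹ * (x * s) * g := by rw [hy, ht]; group
        _ = g⁻¹ * (s * x) * g := by rw [hsx.eq]
        _ = t * y := by rw [hy, ht]; group
    -- the stabilizer of `t` in `M / C(S)` has order `e`
    letI : MulAction M T :=
      { smul := fun m s => ⟨(m : G) * s * (m : G)⁻¹, (mem_normalizer_iff.1 m.2 _).1 s.2.1,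
          fun e' => s.2.2 (by rw [mul_inv_eq_one, mul_eq_left] at e'; exact e')⟩
        one_smul := fun s => Subtype.ext (show ((1 : M) : G) * (s : G) * ((1 : M) : G)⁻¹ = s by simp)
        mul_smul := fun m n s => Subtype.ext (show ((m * n : M) : G) * (s : G) * ((m * n : M) : G)⁻¹ =
          (m : G) * ((n : G) * (s : G) * (n : G)⁻¹) * (m : G)⁻¹ by simp [mul_assoc]) }
    let t' : T := ⟨t, htS, ne_one ht2⟩
    have htrans : ∀ s : T, s ∈ MulAction.orbit M t' := fun s => by
      obtain ⟨n, hn, hns⟩ := h.transitive S hc htS s.2.1 ht2 (hT2 s)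
      exact ⟨⟨n, hn⟩, Subtype.ext hns⟩
    have horb : Nat.card (MulAction.orbit M t') = p := by
      rw [Nat.card_congr (Equiv.subtypeUnivEquiv htrans), hTcard]
    set St := MulAction.stabilizer M t'
    have hSt : Nat.card St * p = Nat.card M := by
      rw [← horb, ← Nat.card_congr (MulAction.orbitEquivQuotientStabilizer M t').symm, mul_comm]
      exact (Subgroup.card_eq_card_quotient_mul_card_subgroup St).symm
    have hle : Cc.subgroupOf M ≤ St := fun m hm => Subtype.ext (by
      have e' : (m : G) * t = t * (m : G) := (mem_centralizer_iff.1 hm t htS).symm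
      show (m : G) * t * (m : G)⁻¹ = t
      rw [e', mul_inv_cancel_right])
    have himage : Nat.card (St.map (QuotientGroup.mk' (Cc.subgroupOf M))) = e := by
      let φ := (QuotientGroup.mk' (Cc.subgroupOf M)).comp St.subtype
      have h1 := Subgroup.card_eq_card_quotient_mul_card_subgroup φ.ker
      have hr : φ.range = St.map (QuotientGroup.mk' (Cc.subgroupOf M)) := by
        simp only [φ, MonoidHom.range_comp, Subgroup.range_subtype]
      have hk : φ.ker = (Cc.subgroupOf M).subgroupOf St := by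
        simp only [φ, ← MonoidHom.comap_ker, QuotientGroup.ker_mk']
        rfl
      rw [Nat.card_congr (QuotientGroup.quotientKerEquivRange φ).toEquiv, hr, hk,
        Nat.card_congr (subgroupOfEquivOfLe hle).toEquiv,
        Nat.card_congr (subgroupOfEquivOfLe hCM).toEquiv] at h1
      rw [← hA, h1] at hSt
      refine Nat.eq_of_mul_eq_mul_right hp.pos (Nat.eq_of_mul_eq_mul_right (m := Nat.card Cc) Nat.card_pos ?_)
      linarith [hSt]
    by_contra hyC
    have himy : im y hyM ≠ 1 := fun e' => hyC ((him y hyM).1 e')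
    have hord' : orderOf (im y hyM) = p :=
      orderOf_eq_prime (himp y hyM (by rw [hy, hord]; exact hxp)) himy
    have hmem : im y hyM ∈ St.map (QuotientGroup.mk' (Cc.subgroupOf M)) :=
      ⟨⟨y, hyM⟩, Subtype.ext (by show y * t * y⁻¹ = t; rw [hty.eq, mul_inv_cancel_right]), rfl⟩
    have hd := Subgroup.orderOf_dvd_natCard _ hmem
    rw [hord', himage] at hd
    rcases Nat.eq_zero_or_pos e with h0 | h0
    · exact hnot (by rw [h0, mul_zero]; exact dvd_zero _)
    · exact absurd (Nat.le_of_dvd h0 hd) (by omega)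
  · intro X Y hXY
    obtain ⟨g, hg⟩ := hbase X
    set B := g⁻¹ • Y with hB
    have hBo : B ≠ o := fun e' => hXY (by rw [← hg, ← e', hB, smul_inv_smul])
    obtain ⟨u, hu, huB⟩ : ∃ u : G, orderOf u = 2 ∧ u • o = B := by
      have hc1 := Involutions.StronglyEmbedded.card_swap hH o B hBo.symm
      obtain ⟨t, ht, h2⟩ := exists_involution hne he
      have hpos : 0 < Nat.card {t : G // orderOf t = 2 ∧ t ∈ M} :=
        Nat.card_pos_iff.2 ⟨⟨⟨t, h2, le_normalizer ht⟩⟩, inferInstance⟩
      rw [← hc1] at hpos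
      obtain ⟨⟨v, hv, hvX⟩⟩ := (Nat.card_pos_iff.1 hpos).1
      exact ⟨v, hv, hvX⟩
    have huM : u ∉ M := fun e' => hBo (by rw [← huB, (hstab u).2 e'])
    set H := M ⊓ M.map (MulAut.conj u).toMonoidHom with hH'
    have hHB : ∀ m ∈ H, m • B = B := by
      rintro m ⟨-, k, hk, rfl⟩
      show (u * k * u⁻¹) • B = B
      rw [← huB, ← mul_smul, inv_mul_cancel_right, mul_smul, (hstab k).2 hk]
    have hHM : H ≤ M := inf_le_left
    -- the image of `H` has order divisible by `p`
    letI : MulAction H T :=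
      { smul := fun m s => ⟨(m : G) * s * (m : G)⁻¹, (mem_normalizer_iff.1 (hHM m.2) _).1 s.2.1,
          fun e' => s.2.2 (by rw [mul_inv_eq_one, mul_eq_left] at e'; exact e')⟩
        one_smul := fun s => Subtype.ext (show ((1 : H) : G) * (s : G) * ((1 : H) : G)⁻¹ = s by simp)
        mul_smul := fun m n s => Subtype.ext (show ((m * n : H) : G) * (s : G) * ((m * n : H) : G)⁻¹ =
          (m : G) * ((n : G) * (s : G) * (n : G)⁻¹) * (m : G)⁻¹ by simp [mul_assoc]) }
    obtain ⟨t, ht, h2⟩ := exists_involution hne he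
    let t' : T := ⟨t, ht, ne_one h2⟩
    have htrans : ∀ s : T, s ∈ MulAction.orbit H t' := fun s => by
      obtain ⟨d, hd, hds⟩ := Involutions.StronglyEmbedded.exists_conj_in_inter hH hu huM h2
        (le_normalizer ht) (hT2 s) (le_normalizer s.2.1)
      exact ⟨⟨d, hd⟩, Subtype.ext hds⟩
    have horb : p = Nat.card (H ⧸ MulAction.stabilizer H t') := by
      rw [← Nat.card_congr (MulAction.orbitEquivQuotientStabilizer H t'),
        Nat.card_congr (Equiv.subtypeUnivEquiv htrans), hTcard]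
    obtain ⟨P⟩ : Nonempty (Sylow p H) := inferInstance
    obtain ⟨y, hy, hyt⟩ : ∃ y ∈ (P : Subgroup H), y ∉ MulAction.stabilizer H t' := by
      by_contra hh
      push Not at hh
      refine P.not_dvd_index ((dvd_refl p).trans ?_)
      refine dvd_trans ?_ (Subgroup.index_dvd_of_le hh)
      rw [Subgroup.index_eq_card, ← horb]
    refine ⟨g * y * g⁻¹, ?_, ?_, ?_, ?_⟩
    · rw [← hg, mul_smul, mul_smul, inv_smul_smul, (hstab _).2 (hHM y.2)]
    · rw [mul_smul, mul_smul, ← hB, hHB _ y.2, hB, smul_inv_smul]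
    · obtain ⟨k, hk⟩ := (IsPGroup.iff_orderOf.1 P.2) ⟨y, hy⟩
      exact ⟨k, by rw [orderOf_conj, ← hk, Subgroup.orderOf_mk, Subgroup.orderOf_coe]⟩
    · intro hC
      have := conj_mem_cen g⁻¹ hC
      rw [← hg, inv_smul_smul, hcen] at this
      have hyC : (y : G) ∈ Cc := by simpa [mul_assoc] using this
      exact hyt (Subtype.ext (by
        show (y : G) * t * (y : G)⁻¹ = t
        rw [← mem_centralizer_iff.1 hyC t ht, mul_inv_cancel_right]))
  · intro X x hxX hxp
    obtain ⟨g, hg⟩ := hbase X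
    refine hback hg ?_
    have hyM := hconj_fix hg hxX
    have h1 := himp _ hyM (by rw [hord]; exact hxp)
    have e' : (g⁻¹ * x * g) ^ p = g⁻¹ * x ^ p * g := by simpa using conj_pow (i := p) (a := g⁻¹) (b := x)
    rw [← e', ← him _ (pow_mem hyM p)]
    simp only [im] at h1 ⊢
    rw [← map_pow] at h1
    exact h1
  · intro X x y hxX hyX hxp hyp hxC
    obtain ⟨g, hg⟩ := hbase X
    have hxM := hconj_fix hg hxX
    have hyM := hconj_fix hg hyX
    have hx1 : im _ hxM ≠ 1 := fun e' => hxC (hback hg ((him _ hxM).1 e'))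
    have hxo : orderOf (im _ hxM) = p :=
      orderOf_eq_prime (himp _ hxM (by rw [hord]; exact hxp)) hx1
    have hfac : (Nat.card (M ⧸ Cc.subgroupOf M)).factorization p = 1 := by
      rw [hQcard]
      have h1 := (hp.pow_dvd_iff_le_factorization (k := 1)
        (hQcard ▸ Nat.card_pos.ne' : p * e ≠ 0)).1 (by rw [pow_one]; exact dvd_mul_right p e)
      have h2 := mt (hp.pow_dvd_iff_le_factorization (k := 2)
        (hQcard ▸ Nat.card_pos.ne' : p * e ≠ 0)).2 hnot
      omega
    let P₁ : Sylow p (M ⧸ Cc.subgroupOf M) := Sylow.ofCard (zpowers (im _ hxM))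
      (by rw [Nat.card_zpowers, hxo, hfac, pow_one])
    have huniq : Subsingleton (Sylow p (M ⧸ Cc.subgroupOf M)) := by
      refine Finite.card_le_one_iff_subsingleton.1 ?_
      have hd := P₁.card_dvd_index
      have hidx : (P₁ : Subgroup (M ⧸ Cc.subgroupOf M)).index = e := by
        have h1 := (P₁ : Subgroup (M ⧸ Cc.subgroupOf M)).card_mul_index
        rw [hQcard, show Nat.card (P₁ : Subgroup (M ⧸ Cc.subgroupOf M)) = p from by
          rw [show (P₁ : Subgroup (M ⧸ Cc.subgroupOf M)) = zpowers (im _ hxM) from rfl,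
            Nat.card_zpowers, hxo]] at h1
        exact Nat.eq_of_mul_eq_mul_left hp.pos h1
      rw [hidx] at hd
      have hmod := card_sylow_modEq_one p (M ⧸ Cc.subgroupOf M)
      have hlt : Nat.card (Sylow p (M ⧸ Cc.subgroupOf M)) < p := by
        rcases Nat.eq_zero_or_pos e with h0 | h0
        · exact absurd (by rw [h0, mul_zero]; exact dvd_zero _) hnot
        · exact lt_of_le_of_lt (Nat.le_of_dvd h0 hd) hep
      have := hmod
      rw [Nat.ModEq, Nat.mod_eq_of_lt hlt, Nat.mod_eq_of_lt hp.one_lt] at this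
      omega
    have hy1 := himp _ hyM (by rw [hord]; exact hyp)
    have hymem : im _ hyM ∈ zpowers (im _ hxM) := by
      obtain ⟨P₂, hP₂⟩ := (IsPGroup.iff_orderOf.2 fun z : zpowers (im _ hyM) => by
        obtain ⟨j, -, hj⟩ := (Nat.dvd_prime_pow hp).1
          ((orderOf_dvd_natCard z).trans ((Nat.card_zpowers _).dvd.trans
            ((orderOf_dvd_of_pow_eq_one hy1).trans (pow_one p).symm.dvd)))
        exact ⟨j, hj⟩ : IsPGroup p (zpowers (im _ hyM))).exists_le_sylow
      rw [Subsingleton.elim P₂ P₁] at hP₂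
      exact hP₂ (mem_zpowers _)
    obtain ⟨j, hj⟩ := mem_zpowers_iff.1 hymem
    refine ⟨-j, hback hg ?_⟩
    have hm : g⁻¹ * (y * x ^ (-j)) * g ∈ M := by
      have e' : g⁻¹ * (y * x ^ (-j)) * g = (g⁻¹ * y * g) * (g⁻¹ * x * g) ^ (-j) := by
        have := conj_zpow (i := -j) (a := g⁻¹) (b := x)
        rw [inv_inv] at this
        rw [this]; group
      rw [e']; exact mul_mem hyM (zpow_mem hxM _)
    rw [← him _ hm]
    have e2 : (⟨_, hm⟩ : M) = (⟨_, hyM⟩ : M) * (⟨_, hxM⟩ : M) ^ (-j) := by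
      refine Subtype.ext ?_
      have := conj_zpow (i := -j) (a := g⁻¹) (b := x)
      rw [inv_inv] at this
      show g⁻¹ * (y * x ^ (-j)) * g = _
      push_cast
      rw [this]; group
    simp only [im] at hj ⊢
    rw [e2, map_mul, map_zpow, ← hj, ← zpow_add, add_neg_cancel, zpow_zero]

end Cfsg.Agent.EqSubConj
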