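import Cfsg.Agent.Lib.EqSubConj.Points

/-!
# Double transitivity, and the elements centralizing the involutions at one of two points
-/

set_option autoImplicit false

namespace Cfsg.Agent.EqSubConj.Pts

open Subgroup MulAction Involutions.Basic

universe u v

variable {G : Type u} [Group G] [Finite G] {Ω : Type v} [MulAction G Ω] {p : ℕ} (P : Pts G Ω p)

include P

theorem exists_fix {X Y : Ω} (hXY : X ≠ Y) :
    ∃ d : G, orderOf d = p ∧ d • X = X ∧ d • Y = Y := by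
  obtain ⟨v, hv, hvX, -⟩ := P.swap hXY
  obtain ⟨c, h1, h2, h3, -, -⟩ := P.inverted hXY hv hvX
  exact ⟨c, h3, h1, h2⟩

theorem cen_of_pow {X : Ω} {x : G} (hX : x ∈ Cen G X) (hx : x ^ p = 1) : x = 1 := by
  by_contra h
  haveI : Fact p.Prime := ⟨P.prime⟩
  exact P.cen_prime hX (orderOf_eq_prime hx h)

/-- A subgroup of prime order `p` of a stabilizer is a Sylow subgroup of it. -/
theorem pgroup_le_zpowers {X : Ω} {d : G} (hd : orderOf d = p) (hX : d • X = X) {Q : Subgroup G}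
    (hQ : IsPGroup p Q) (hQX : Q ≤ stabilizer G X) (hdQ : d ∈ Q) : Q ≤ zpowers d := by
  haveI : Fact p.Prime := ⟨P.prime⟩
  intro x hx
  have hpe : ∀ z ∈ Q, ∃ k, orderOf z = p ^ k := fun z hz => by
    obtain ⟨k, hk⟩ := (IsPGroup.iff_orderOf.1 hQ) ⟨z, hz⟩
    exact ⟨k, by rwa [← Subgroup.orderOf_coe] at hk⟩
  obtain ⟨i, hi⟩ := P.pgen hX (hQX hx) ⟨1, by rw [hd, pow_one]⟩ (hpe x hx)
    fun h => P.cen_prime h hd
  have hm : x * d ^ i ∈ Q := mul_mem hx (zpow_mem hdQ i)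
  have h1 := P.cen_of_pow hi (P.pow_p (hQX hm) (hpe _ hm))
  exact mem_zpowers_iff.2 ⟨-i, by rw [zpow_neg]; exact inv_eq_of_mul_eq_one_left h1⟩

/-- The elements of order `p` of a stabilizer generate conjugate subgroups. -/
theorem conj_zpowers {X : Ω} {d d' : G} (hd : orderOf d = p) (hd' : orderOf d' = p) (hX : d • X = X)
    (hX' : d' • X = X) : ∃ m : G, m • X = X ∧ m * d * m⁻¹ ∈ zpowers d' := by
  haveI : Fact p.Prime := ⟨P.prime⟩
  have key : ∀ {e : G}, orderOf e = p → ∀ (he : e ∈ stabilizer G X) {T : Sylow p (stabilizer G X)},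
      (⟨e, he⟩ : stabilizer G X) ∈ (T : Subgroup (stabilizer G X)) →
      (T : Subgroup (stabilizer G X)).map (stabilizer G X).subtype ≤ zpowers e := by
    intro e he1 he T hT
    refine P.pgroup_le_zpowers he1 he (T.2.map _) (map_subtype_le _) ?_
    exact ⟨⟨e, he⟩, hT, rfl⟩
  have hp : ∀ {e : G}, orderOf e = p → ∀ he : e ∈ stabilizer G X,
      IsPGroup p (zpowers (⟨e, he⟩ : stabilizer G X)) := fun {e} he1 he =>
    IsPGroup.of_card (n := 1) (by rw [Nat.card_zpowers, Subgroup.orderOf_mk, he1, pow_one])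
  obtain ⟨T, hT⟩ := (hp hd hX).exists_le_sylow
  obtain ⟨T', hT'⟩ := (hp hd' hX').exists_le_sylow
  obtain ⟨m, hm⟩ := MulAction.exists_smul_eq (stabilizer G X) T T'
  refine ⟨m, m.2, key hd' hX' (hT' (mem_zpowers _)) ⟨m * ⟨d, hX⟩ * m⁻¹, ?_, rfl⟩⟩
  rw [← hm, SetLike.mem_coe, Sylow.smul_def, Sylow.pointwise_smul_def]
  exact Subgroup.smul_mem_pointwise_smul _ (MulAut.conj m) _ (hT (mem_zpowers _))

/-- The stabilizer of a point is transitive on the other points. -/
theorem stab_transitive {X Y Y' : Ω} (hY : Y ≠ X) (hY' : Y' ≠ X) :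
    ∃ m : G, m • X = X ∧ m • Y = Y' := by
  obtain ⟨d, hd, hdX, hdY⟩ := P.exists_fix hY.symm
  obtain ⟨d', hd', hdX', hdY'⟩ := P.exists_fix hY'.symm
  obtain ⟨m, hmX, hm⟩ := P.conj_zpowers hd hd' hdX hdX'
  refine ⟨m, hmX, ?_⟩
  obtain ⟨i, hi⟩ := mem_zpowers_iff.1 hm
  have he : orderOf (m * d * m⁻¹) = p := by rw [orderOf_conj, hd]
  by_contra hne
  refine P.fix_two (X := X) (Y := Y') (Z := m • Y) he hY'.symm (fun e => hne e.symm)
    (fun e => hY ((smul_left_cancel m) (e.symm.trans hmX.symm))) ?_ ?_ ?_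
  · rw [← hi]; exact (stabilizer G X).zpow_mem hdX' i
  · rw [← hi]; exact (stabilizer G Y').zpow_mem hdY' i
  · rw [mul_smul, mul_smul, inv_smul_smul, hdY]

theorem two_transitive : IsMultiplyPretransitive G Ω 2 := by
  refine is_two_pretransitive_iff.2 fun {a b c d} hab hcd => ?_
  obtain ⟨g, hg⟩ : ∃ g : G, g • a = c := by
    by_cases h : a = c
    · exact ⟨1, by rw [one_smul, h]⟩
    · obtain ⟨v, -, hv, -⟩ := P.swap h
      exact ⟨v, hv⟩
  have hb : g • b ≠ c := fun e => hab (smul_left_cancel g (hg.trans e.symm))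
  obtain ⟨m, hm, hmb⟩ := P.stab_transitive hb hcd.symm
  exact ⟨m * g, by rw [mul_smul, hg, hm], by rw [mul_smul, hmb]⟩

/-- In a two-point stabilizer the elements centralizing the involutions at one point centralize the
elements of order `p`. -/
theorem commute_fix {X Y : Ω} (hXY : X ≠ Y) {d w : G} (hd : orderOf d = p) (hX : d • X = X)
    (hY : d • Y = Y) (hw : w ∈ Cen G X) (hwY : w • Y = Y) : Commute d w := by
  haveI : Fact p.Prime := ⟨P.prime⟩
  obtain ⟨v, hv, hvX, -⟩ := P.swap hXY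
  obtain ⟨c, -, -, hco, -, hall⟩ := P.inverted hXY hv hvX
  have hdp : d ^ p = 1 := hd ▸ pow_orderOf_eq_one d
  have hwX := P.cen_smul hw
  have hk : w * d * w⁻¹ * d⁻¹ ∈ zpowers c :=
    mul_mem (hall _ (by rw [mul_smul, mul_smul, inv_smul_eq_iff.2 hwX.symm, hX, hwX])
      (by rw [mul_smul, mul_smul, inv_smul_eq_iff.2 hwY.symm, hY, hwY])
      (by rw [conj_pow, hdp, mul_one, mul_inv_cancel])) (inv_mem (hall d hX hY hdp))
  have hkC : w * d * w⁻¹ * d⁻¹ ∈ Cen G X := by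
    rw [show w * d * w⁻¹ * d⁻¹ = w * (d * w⁻¹ * d⁻¹) by group]
    exact mul_mem hw (conj_mem_cen_of_fix hX (inv_mem hw))
  obtain ⟨i, hi⟩ := mem_zpowers_iff.1 hk
  have h1 := P.cen_of_pow hkC (by
    have hcp : c ^ p = 1 := hco ▸ pow_orderOf_eq_one c
    rw [← hi, ← zpow_natCast, ← zpow_mul, mul_comm, zpow_mul, zpow_natCast, hcp, one_zpow])
  rw [mul_inv_eq_one, mul_inv_eq_iff_eq_mul] at h1
  exact h1.symm

/-- Conversely a centralizing element fixes the second point. -/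
theorem fix_of_commute {X Y : Ω} (hXY : X ≠ Y) {d w : G} (hd : orderOf d = p) (hX : d • X = X)
    (hY : d • Y = Y) (hwX : w • X = X) (hdw : Commute d w) : w • Y = Y := by
  by_contra hne
  refine P.fix_two (X := X) (Y := Y) (Z := w • Y) hd hXY (fun e => hne e.symm) ?_ hX hY ?_
  · exact fun e => hXY (smul_left_cancel w (hwX.trans e))
  · rw [← mul_smul, hdw.eq, mul_smul, hY]

end Cfsg.Agent.EqSubConj.Pts
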