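import Cfsg.Agent.Lib.EqSubConj.Basic

/-!
# The points of a strongly embedded normalizer of an elementary abelian Sylow `2`-subgroup

An abstract version of the action on the cosets of that normalizer: the stabilizer of a point `X`
permutes the `p` involutions fixing `X`, with `p` prime. The outcome is that an element of order `p`
fixes two points and is inverted by the involutions interchanging them, so that `G` is doubly
transitive.
-/

set_option autoImplicit false

namespace Cfsg.Agent.EqSubConj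

open Subgroup MulAction Involutions.Basic

universe u v

section

variable (G : Type u) [Group G] {Ω : Type v} [MulAction G Ω]

/-- The centralizer of the involutions fixing a point. -/
def Cen (X : Ω) : Subgroup G :=
  Subgroup.centralizer {s : G | orderOf s = 2 ∧ s • X = X}

/-- The point set of the strongly embedded subgroup. -/
structure Pts (Ω : Type v) [MulAction G Ω] (p : ℕ) : Prop where
  eqSub : EqSub G
  prime : p.Prime
  odd : Odd p
  two : ∀ X : Ω, ∃ Y : Ω, Y ≠ X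
  inv : ∀ X : Ω, ∃ s : G, orderOf s = 2 ∧ s • X = X
  unique : ∀ {s : G}, orderOf s = 2 → ∃! X : Ω, s • X = X
  swap : ∀ {X Y : Ω}, X ≠ Y → ∃ v : G, orderOf v = 2 ∧ v • X = Y ∧ v • Y = X
  comm : ∀ {X : Ω} {s t : G}, orderOf s = 2 → s • X = X → orderOf t = 2 → t • X = X → Commute s t
  odd_two : ∀ {X Y : Ω}, X ≠ Y → Odd (Nat.card ↥(stabilizer G X ⊓ stabilizer G Y))
  orbit : ∀ {X : Ω} {x : G}, x • X = X → (orderOf x).Prime → orderOf x ≠ p →
    ∃ s : G, orderOf s = 2 ∧ s • X = X ∧ Commute s x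
  pcomm : ∀ {X : Ω} {x s : G}, x • X = X → (∃ k, orderOf x = p ^ k) → orderOf s = 2 → s • X = X →
    Commute s x → x ∈ Cen G X
  moved : ∀ {X Y : Ω}, X ≠ Y → ∃ y : G, y • X = X ∧ y • Y = Y ∧ (∃ k, orderOf y = p ^ k) ∧
    y ∉ Cen G X
  ppow : ∀ {X : Ω} {x : G}, x • X = X → (∃ k, orderOf x = p ^ k) → x ^ p ∈ Cen G X
  pgen : ∀ {X : Ω} {x y : G}, x • X = X → y • X = X → (∃ k, orderOf x = p ^ k) →
    (∃ k, orderOf y = p ^ k) → x ∉ Cen G X → ∃ i : ℤ, y * x ^ i ∈ Cen G X

variable {G}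

theorem mem_cen {X : Ω} {x : G} :
    x ∈ Cen G X ↔ ∀ s : G, orderOf s = 2 → s • X = X → Commute s x :=
  ⟨fun h s hs hX => h s ⟨hs, hX⟩, fun h s hs => h s hs.1 hs.2⟩

theorem conj_mem_cen {X : Ω} {x : G} (g : G) (hx : x ∈ Cen G X) :
    g * x * g⁻¹ ∈ Cen G (g • X) := by
  rw [mem_cen] at hx ⊢
  intro s hs hX
  have h := hx (g⁻¹ * s * g) (by simpa using (orderOf_conj g⁻¹ s).trans hs)
    (by rw [mul_smul, mul_smul, hX, inv_smul_smul])
  show s * (g * x * g⁻¹) = g * x * g⁻¹ * s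
  calc s * (g * x * g⁻¹) = g * (g⁻¹ * s * g * x) * g⁻¹ := by group
    _ = g * (x * (g⁻¹ * s * g)) * g⁻¹ := by rw [h.eq]
    _ = g * x * g⁻¹ * s := by group

theorem conj_mem_cen_of_fix {X : Ω} {x g : G} (hg : g • X = X) (hx : x ∈ Cen G X) :
    g * x * g⁻¹ ∈ Cen G X := by
  simpa [hg] using conj_mem_cen g hx

end

namespace Pts

variable {G : Type u} [Group G] [Finite G] {Ω : Type v} [MulAction G Ω] {p : ℕ} (P : Pts G Ω p)

include P

omit [Finite G] in
theorem cen_smul {X : Ω} {x : G} (hx : x ∈ Cen G X) : x • X = X := by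
  obtain ⟨s, hs, hX⟩ := P.inv X
  refine (P.unique hs).unique ?_ hX
  rw [← mul_smul, (mem_cen.1 hx s hs hX).eq, mul_smul, hX]

omit [Finite G] in
theorem smul_of_commute {X : Ω} {s x : G} (hs : orderOf s = 2) (hX : s • X = X)
    (h : Commute s x) : x • X = X :=
  (P.unique hs).unique (by rw [← mul_smul, h.eq, mul_smul, hX]) hX

theorem two_mem {X Y : Ω} {x : G} (hX : x • X = X) (hY : x • Y = Y) :
    x ∈ stabilizer G X ⊓ stabilizer G Y := ⟨hX, hY⟩

theorem odd_orderOf {X Y : Ω} (hXY : X ≠ Y) {x : G} (hX : x • X = X) (hY : x • Y = Y) :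
    Odd (orderOf x) :=
  (P.odd_two hXY).of_dvd_nat (Subgroup.orderOf_dvd_natCard _ (P.two_mem hX hY))

omit [Finite G] in
theorem swap_two {X Y : Ω} {v x : G} (hv : orderOf v = 2) (hvX : v • X = Y)
    (hX : x • X = X) (hY : x • Y = Y) :
    (v * x * v⁻¹) • X = X ∧ (v * x * v⁻¹) • Y = Y := by
  have hvY : v • Y = X := by rw [← hvX, ← mul_smul, inv_sq_one hv, one_smul]
  rw [inv_eq hv]
  constructor
  · rw [mul_smul, mul_smul, hvX, hY, hvY]
  · rw [mul_smul, mul_smul, hvY, hX, hvX]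

/-- An element of prime order `≠ p` fixing two points is not inverted by an involution. -/
theorem prime_eq_of_inverted {X Y : Ω} (hXY : X ≠ Y) {v x : G} (hv : orderOf v = 2)
    (hX : x • X = X) (hY : x • Y = Y) (hinv : v * x * v⁻¹ = x⁻¹) (hx : (orderOf x).Prime) :
    orderOf x = p := by
  by_contra hne
  obtain ⟨s, hs, -, hsx⟩ := P.orbit hX hx hne
  have := P.eqSub.no_mixed (P.odd_orderOf hXY hX hY) hs hsx hv hinv
  rw [this, orderOf_one] at hx
  exact Nat.not_prime_one hx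

/-- No element of order `p` commutes with an involution. -/
theorem not_commute {y s : G} (hy : orderOf y = p) (hs : orderOf s = 2) : ¬ Commute s y := by
  haveI : Fact p.Prime := ⟨P.prime⟩
  intro hsy
  -- every element of order `p` commutes with an involution
  have hall : ∀ x : G, orderOf x = p → ∃ t : G, orderOf t = 2 ∧ Commute t x := by
    intro x hx
    obtain ⟨g, hg⟩ := P.eqSub (zpowers y) (zpowers x) (by rw [Nat.card_zpowers, Nat.card_zpowers, hy, hx])
    have hm : x ∈ (zpowers y).map (MulAut.conj g).toMonoidHom := hg ▸ mem_zpowers x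
    obtain ⟨w, hw, hwx⟩ := hm
    obtain ⟨i, rfl⟩ := mem_zpowers_iff.1 hw
    refine ⟨g * s * g⁻¹, by rw [orderOf_conj, hs], ?_⟩
    rw [← hwx]
    exact Commute.map (hsy.zpow_right i) (MulAut.conj g).toMonoidHom
  -- so every swapping involution centralizes the stabilizer of its two points
  have hswap : ∀ {X Y : Ω} {v : G}, X ≠ Y → orderOf v = 2 → v • X = Y →
      ∀ x : G, x • X = X → x • Y = Y → Commute v x := by
    intro X Y v hXY hv hvX x hX hY
    have hvi := inv_eq hv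
    have hc := P.swap_two hv hvX hX hY
    set c := x⁻¹ * (v * x * v⁻¹) with hcdef
    have hcX : c • X = X := by rw [hcdef, mul_smul, hc.1, inv_smul_eq_iff, hX]
    have hcY : c • Y = Y := by rw [hcdef, mul_smul, hc.2, inv_smul_eq_iff, hY]
    have hcinv : v * c * v⁻¹ = c⁻¹ := by
      simp only [hcdef, hvi, mul_inv_rev, inv_inv, mul_assoc, inv_sq_one hv, mul_one]
    by_cases hc1 : c = 1
    · rw [hcdef, inv_mul_eq_one, eq_mul_inv_iff_mul_eq] at hc1
      exact hc1.symm
    exfalso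
    obtain ⟨r, hr, hrd⟩ := Nat.exists_prime_and_dvd (fun e => hc1 (orderOf_eq_one_iff.1 e))
    set d := c ^ (orderOf c / r) with hd
    have hdo : orderOf d = r := orderOf_pow_orderOf_div (orderOf_pos c).ne' hrd
    have hdX : d • X = X := (stabilizer G X).pow_mem hcX _
    have hdY : d • Y = Y := (stabilizer G Y).pow_mem hcY _
    have hdinv : v * d * v⁻¹ = d⁻¹ := by rw [hd, ← conj_pow, hcinv, inv_pow]
    obtain ⟨t, ht, htd⟩ : ∃ t : G, orderOf t = 2 ∧ Commute t d := by
      by_cases hrp : r = p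
      · exact hall d (hdo.trans hrp)
      · obtain ⟨t, ht, -, htd⟩ := P.orbit hdX (hdo.symm ▸ hr) (hdo.symm ▸ hrp)
        exact ⟨t, ht, htd⟩
    have := P.eqSub.no_mixed (P.odd_orderOf hXY hdX hdY) ht htd hv hdinv
    rw [this, orderOf_one] at hdo
    exact hr.one_lt.ne hdo
  obtain ⟨X, hsX, -⟩ := (P.unique hs)
  obtain ⟨Y, hYX⟩ := P.two X
  have hXY : X ≠ Y := hYX.symm
  obtain ⟨u, hu, huX, -⟩ := P.swap hXY
  obtain ⟨z, huz, -⟩ := P.unique hu
  obtain ⟨w, hwX, hwY, hwp, hwC⟩ := P.moved hXY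
  have huw : Commute u w := hswap hXY hu huX w hwX hwY
  have hwz : w • z = z := P.smul_of_commute hu huz huw
  have hwCz : w ∈ Cen G z := P.pcomm hwz hwp hu huz huw
  have hzX : z ≠ X := fun e => hXY (by rw [e] at huz; rw [← huX, huz])
  obtain ⟨u', hu', hu'z, -⟩ := P.swap hzX
  have := conj_mem_cen u' hwCz
  rw [hu'z, (hswap hzX hu' hu'z w hwz hwX).eq, mul_inv_cancel_right] at this
  exact hwC this

theorem cen_prime {X : Ω} {x : G} (hx : x ∈ Cen G X) : orderOf x ≠ p := fun h => by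
  obtain ⟨s, hs, hX⟩ := P.inv X
  exact P.not_commute h hs (mem_cen.1 hx s hs hX)

/-- A `p`-element of a stabilizer has order dividing `p`. -/
theorem pow_p {X : Ω} {x : G} (hX : x • X = X) (hx : ∃ k, orderOf x = p ^ k) : x ^ p = 1 := by
  haveI : Fact p.Prime := ⟨P.prime⟩
  obtain ⟨k, hk⟩ := hx
  by_contra h
  have hC := P.ppow hX ⟨k, hk⟩
  rcases k with _ | _ | k
  · rw [pow_zero, orderOf_eq_one_iff] at hk
    exact h (by rw [hk, one_pow])
  · exact h (by rw [zero_add, pow_one] at hk; nth_rw 1 [← hk]; exact pow_orderOf_eq_one x)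
  · refine P.cen_prime (pow_mem hC (p ^ k)) ?_
    rw [← pow_mul, ← pow_succ', orderOf_pow_of_dvd (pow_ne_zero _ P.prime.ne_zero)
      (hk ▸ pow_dvd_pow p (by omega)), hk, Nat.pow_div (by omega) P.prime.pos,
      show k + 1 + 1 - (k + 1) = 1 by omega, pow_one]

/-- Elements of a two-point stabilizer inverted by a swapping involution. -/
theorem inverted_pow {X Y : Ω} (hXY : X ≠ Y) {v x : G} (hv : orderOf v = 2)
    (hX : x • X = X) (hY : x • Y = Y) (hinv : v * x * v⁻¹ = x⁻¹) : x ^ p = 1 := by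
  refine P.pow_p hX ⟨(orderOf x).primeFactorsList.length, ?_⟩
  by_cases hx1 : x = 1
  · rw [hx1]; simp
  refine Nat.eq_prime_pow_of_unique_prime_dvd (orderOf_pos x).ne' fun {r} hr hrd => ?_
  set d := x ^ (orderOf x / r) with hd
  have hdo : orderOf d = r := orderOf_pow_orderOf_div (orderOf_pos x).ne' hrd
  rw [← hdo]
  exact P.prime_eq_of_inverted hXY hv ((stabilizer G X).pow_mem hX _)
    ((stabilizer G Y).pow_mem hY _) (by rw [hd, ← conj_pow, hinv, inv_pow]) (hdo.symm ▸ hr)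

/-- The commutator with a swapping involution. -/
theorem swap_quot {X Y : Ω} (hXY : X ≠ Y) {v x : G} (hv : orderOf v = 2) (hvX : v • X = Y)
    (hX : x • X = X) (hY : x • Y = Y) :
    (x⁻¹ * (v * x * v⁻¹)) • X = X ∧ (x⁻¹ * (v * x * v⁻¹)) • Y = Y ∧
      v * (x⁻¹ * (v * x * v⁻¹)) * v⁻¹ = (x⁻¹ * (v * x * v⁻¹))⁻¹ ∧
      (x⁻¹ * (v * x * v⁻¹)) ^ p = 1 := by
  have hc := P.swap_two hv hvX hX hY
  have hvi := inv_eq hv
  have hcX : (x⁻¹ * (v * x * v⁻¹)) • X = X := by rw [mul_smul, hc.1, inv_smul_eq_iff, hX]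
  have hcY : (x⁻¹ * (v * x * v⁻¹)) • Y = Y := by rw [mul_smul, hc.2, inv_smul_eq_iff, hY]
  have hinv : v * (x⁻¹ * (v * x * v⁻¹)) * v⁻¹ = (x⁻¹ * (v * x * v⁻¹))⁻¹ := by
    simp only [hvi, mul_inv_rev, inv_inv, mul_assoc, inv_sq_one hv, mul_one]
  exact ⟨hcX, hcY, hinv, P.inverted_pow hXY hv hcX hcY hinv⟩

/-- A swapping involution inverts the elements of order `p` of the two-point stabilizer, which form
one subgroup. -/
theorem inverted {X Y : Ω} (hXY : X ≠ Y) {v : G} (hv : orderOf v = 2) (hvX : v • X = Y) :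
    ∃ c : G, c • X = X ∧ c • Y = Y ∧ orderOf c = p ∧ v * c * v⁻¹ = c⁻¹ ∧
      ∀ x : G, x • X = X → x • Y = Y → x ^ p = 1 → x ∈ zpowers c := by
  haveI : Fact p.Prime := ⟨P.prime⟩
  obtain ⟨y, hyX, hyY, hyp, hyC⟩ := P.moved hXY
  have hy1 : y ≠ 1 := fun e => hyC (e ▸ one_mem _)
  have hyo : orderOf y = p := orderOf_eq_prime (P.pow_p hyX hyp) hy1
  obtain ⟨hcX, hcY, hcinv, hcp⟩ := P.swap_quot hXY hv hvX hyX hyY
  set c := y⁻¹ * (v * y * v⁻¹) with hcdef
  have hc1 : c ≠ 1 := fun e => P.not_commute hyo hv (by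
    rw [hcdef, inv_mul_eq_one, eq_mul_inv_iff_mul_eq] at e
    exact e.symm)
  have hco : orderOf c = p := orderOf_eq_prime hcp hc1
  have hcC : c ∉ Cen G X := fun h => P.cen_prime h hco
  have hpel : ∀ x : G, x ^ p = 1 → ∃ k, orderOf x = p ^ k := fun x hx => by
    rcases (Nat.dvd_prime P.prime).1 (orderOf_dvd_of_pow_eq_one hx) with e | e
    · exact ⟨0, by rw [e, pow_zero]⟩
    · exact ⟨1, by rw [e, pow_one]⟩
  -- the subgroup generated by the elements of order `p`
  set R : Subgroup G := closure {x : G | x • X = X ∧ x • Y = Y ∧ x ^ p = 1} with hR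
  have hRX : R ≤ stabilizer G X ⊓ stabilizer G Y := by
    rw [hR, closure_le]
    exact fun x hx => ⟨hx.1, hx.2.1⟩
  have hRodd : Odd (Nat.card R) := (P.odd_two hXY).of_dvd_nat (card_dvd_of_le hRX)
  have hRv : ∀ x ∈ R, v * x * v⁻¹ ∈ R := by
    intro x hx
    have : R ≤ R.comap (MulAut.conj v).toMonoidHom := by
      nth_rw 1 [hR]
      rw [closure_le]
      rintro z ⟨h1, h2, h3⟩
      obtain ⟨h4, h5⟩ := P.swap_two hv hvX h1 h2
      exact subset_closure ⟨h4, h5, by rw [← map_pow, h3, map_one]⟩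
    exact this hx
  -- modulo the centralizer the group `R` is generated by `c`
  have hmod : ∀ x ∈ R, ∃ i : ℤ, x * c ^ i ∈ Cen G X := by
    intro x hx
    rw [hR] at hx
    induction hx using closure_induction with
    | mem z hz => exact P.pgen hcX hz.1 ⟨1, by rw [hco, pow_one]⟩ (hpel z hz.2.2) hcC
    | one => exact ⟨0, by simp⟩
    | mul a b _ _ ha hb =>
      obtain ⟨i, hi⟩ := ha
      obtain ⟨j, hj⟩ := hb
      refine ⟨j + i, ?_⟩
      have e := mul_mem hi (conj_mem_cen_of_fix (g := c ^ (-i)) ((stabilizer G X).zpow_mem hcX _) hj)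
      have e' : a * c ^ i * (c ^ (-i) * (b * c ^ j) * (c ^ (-i))⁻¹) = a * b * c ^ (j + i) := by
        rw [zpow_neg, inv_inv, zpow_add]; group
      rwa [e'] at e
    | inv a _ ha =>
      obtain ⟨i, hi⟩ := ha
      refine ⟨-i, ?_⟩
      have e := conj_mem_cen_of_fix (g := c ^ i) ((stabilizer G X).zpow_mem hcX _) (inv_mem hi)
      have e' : c ^ i * (a * c ^ i)⁻¹ * (c ^ i)⁻¹ = a⁻¹ * c ^ (-i) := by
        rw [zpow_neg]; group
      rwa [e'] at e
  -- the elements of `R` of order prime to `p` centralize the involutions at `X`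
  have hC : ∀ x ∈ R, ¬ p ∣ orderOf x → x ∈ Cen G X := by
    intro x hx hxp
    obtain ⟨i, hi⟩ := hmod x hx
    have hxX : x • X = X := (hRX hx).1
    have key : ∀ n : ℕ, x ^ n * c ^ (i * (n : ℤ)) ∈ Cen G X := by
      intro n
      induction n with
      | zero => simp
      | succ n ih =>
        have e := mul_mem (conj_mem_cen_of_fix hxX ih) hi
        have e' : x * (x ^ n * c ^ (i * (n : ℤ))) * x⁻¹ * (x * c ^ i) =
            x ^ (n + 1) * c ^ (i * ((n + 1 : ℕ) : ℤ)) := by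
          rw [Nat.cast_succ, mul_add, mul_one, zpow_add, pow_succ']
          group
        rwa [e'] at e
    have h1 := key (orderOf x)
    rw [pow_orderOf_eq_one, one_mul] at h1
    have hd : (p : ℤ) ∣ i := by
      by_contra hni
      refine P.cen_prime h1 (orderOf_eq_prime ?_ ?_)
      · rw [← zpow_natCast, ← zpow_mul, mul_comm, zpow_mul, zpow_natCast, hcp, one_zpow]
      · intro e
        rw [← orderOf_dvd_iff_zpow_eq_one, hco] at e
        rcases (Nat.prime_iff_prime_int.1 P.prime).dvd_mul.1 e with h | h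
        · exact hni h
        · exact hxp (Int.natCast_dvd_natCast.1 h)
    have hci : c ^ i = 1 := by rw [← orderOf_dvd_iff_zpow_eq_one, hco]; exact hd
    rwa [hci, mul_one] at hi
  -- hence they are centralized by `v` and by `c`
  have hfix : ∀ x ∈ R, x ∈ Cen G X → Commute v x := by
    intro x hx hxC
    have hxp : ¬ p ∣ orderOf x := fun hd => P.cen_prime (pow_mem hxC _)
      (orderOf_pow_orderOf_div (orderOf_pos x).ne' hd)
    obtain ⟨-, -, -, hd⟩ := P.swap_quot hXY hv hvX (hRX hx).1 (hRX hx).2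
    have hvC := hC _ (hRv x hx) (by rwa [orderOf_conj])
    have h1 : x⁻¹ * (v * x * v⁻¹) = 1 := by
      by_contra hne
      exact P.cen_prime (mul_mem (inv_mem hxC) hvC) (orderOf_eq_prime hd hne)
    rw [inv_mul_eq_one, eq_mul_inv_iff_mul_eq] at h1
    exact h1.symm
  have hcR : c ∈ R := subset_closure ⟨hcX, hcY, hcp⟩
  have hcomm : ∀ x ∈ R, x ∈ Cen G X → Commute c x := by
    intro x hx hxC
    have hy := hfix (c * x * c⁻¹) (mul_mem (mul_mem hcR hx) (inv_mem hcR))
      (conj_mem_cen_of_fix hcX hxC)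
    have e : c⁻¹ * x * c = c * x * c⁻¹ := by
      calc c⁻¹ * x * c = (v * c * v⁻¹) * x * (v * c * v⁻¹)⁻¹ := by rw [hcinv, inv_inv]
        _ = (v * c * v⁻¹) * (v * x * v⁻¹) * (v * c * v⁻¹)⁻¹ := by
          rw [(hfix x hx hxC).eq, mul_inv_cancel_right]
        _ = v * (c * x * c⁻¹) * v⁻¹ := by group
        _ = c * x * c⁻¹ := by rw [hy.eq, mul_inv_cancel_right]
    have h2 : Commute (c ^ 2) x := by
      show c ^ 2 * x = x * c ^ 2
      calc c ^ 2 * x = c * (c * x * c⁻¹) * c := by rw [pow_two]; group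
        _ = c * (c⁻¹ * x * c) * c := by rw [e]
        _ = x * c ^ 2 := by rw [pow_two]; group
    obtain ⟨k, hk⟩ := P.odd
    have h3 := h2.pow_left (k + 1)
    rwa [← pow_mul, show 2 * (k + 1) = p + 1 by omega, pow_succ, hcp, one_mul] at h3
  refine ⟨c, hcX, hcY, hco, hcinv, fun x hX hY hxp => ?_⟩
  have hxR : x ∈ R := subset_closure ⟨hX, hY, hxp⟩
  obtain ⟨i, hi⟩ := hmod x hxR
  have hwR : x * c ^ i ∈ R := mul_mem hxR (zpow_mem hcR i)
  have hw1 : x * c ^ i = 1 := by
    by_contra hne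
    refine P.cen_prime hi (orderOf_eq_prime ?_ hne)
    have hcw : Commute c (x * c ^ i) := hcomm _ hwR hi
    have hcx : Commute c x := by
      have := hcw.mul_right ((Commute.refl c).zpow_right (-i))
      rwa [mul_assoc, ← zpow_add, add_neg_cancel, zpow_zero, mul_one] at this
    rw [(hcx.symm.zpow_right i).mul_pow, hxp, one_mul, ← zpow_natCast, ← zpow_mul, mul_comm,
      zpow_mul, zpow_natCast, hcp, one_zpow]
  refine mem_zpowers_iff.2 ⟨-i, ?_⟩
  rw [zpow_neg]; exact inv_eq_of_mul_eq_one_left hw1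

/-- An element of order `p` fixes at most two points. -/
theorem fix_two {X Y Z : Ω} {d : G} (hd : orderOf d = p) (hXY : X ≠ Y) (hYZ : Y ≠ Z) (hXZ : X ≠ Z)
    (hX : d • X = X) (hY : d • Y = Y) (hZ : d • Z = Z) : False := by
  have hdp : d ^ p = 1 := hd ▸ pow_orderOf_eq_one d
  have inv_all : ∀ {A B : Ω} {u : G}, A ≠ B → orderOf u = 2 → u • A = B → d • A = A → d • B = B →
      u * d * u⁻¹ = d⁻¹ := by
    intro A B u hAB hu huA hA hB
    obtain ⟨c, -, -, -, hc, hall⟩ := P.inverted hAB hu huA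
    obtain ⟨i, rfl⟩ := mem_zpowers_iff.1 (hall d hA hB hdp)
    rw [← conj_zpow, hc, inv_zpow]
  obtain ⟨v1, h1, h1X, -⟩ := P.swap hXY
  obtain ⟨v2, h2, h2Y, -⟩ := P.swap hYZ
  obtain ⟨v3, h3, h3Z, -⟩ := P.swap hXZ.symm
  set g := v3 * v2 * v1 with hg
  have hgX : g • X = X := by rw [hg, mul_smul, mul_smul, h1X, h2Y, h3Z]
  have hgd : g * d * g⁻¹ = d⁻¹ := by
    rw [hg, show v3 * v2 * v1 * d * (v3 * v2 * v1)⁻¹ = v3 * (v2 * (v1 * d * v1⁻¹) * v2⁻¹) * v3⁻¹ by group,
      inv_all hXY h1 h1X hX hY, show v2 * d⁻¹ * v2⁻¹ = (v2 * d * v2⁻¹)⁻¹ by group,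
      inv_all hYZ h2 h2Y hY hZ, inv_inv, inv_all hXZ.symm h3 h3Z hZ hX]
  have hpow : ∀ n : ℕ, g ^ n * d * (g ^ n)⁻¹ = if Even n then d else d⁻¹ := by
    intro n
    induction n with
    | zero => simp
    | succ n ih =>
      rw [pow_succ', mul_inv_rev, show g * g ^ n * d * ((g ^ n)⁻¹ * g⁻¹) =
        g * (g ^ n * d * (g ^ n)⁻¹) * g⁻¹ by group, ih]
      by_cases he : Even n
      · rw [if_pos he, if_neg (by simpa [Nat.even_add_one] using he), hgd]
      · rw [if_neg he, if_pos (by simpa [Nat.even_add_one] using he),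
          show g * d⁻¹ * g⁻¹ = (g * d * g⁻¹)⁻¹ by group, hgd, inv_inv]
  have hd2 : d ≠ d⁻¹ := fun e => by
    have h' : orderOf d ∣ 2 := orderOf_dvd_of_pow_eq_one (by
      rw [pow_two]; nth_rw 2 [e]; exact mul_inv_cancel d)
    rw [hd] at h'
    have hp2 := (Nat.prime_dvd_prime_iff_eq P.prime Nat.prime_two).1 h'
    exact absurd (hp2 ▸ P.odd) (by decide)
  -- `g` has even order, so a power of it is an involution fixing `X`
  have heven : Even (orderOf g) := by
    by_contra ho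
    have := hpow (orderOf g)
    rw [pow_orderOf_eq_one, if_neg ho] at this
    exact hd2 (by simpa using this)
  obtain ⟨m, hm⟩ := even_iff_two_dvd.1 heven
  have hso : orderOf (g ^ m) = 2 := by
    have hm0 : m ≠ 0 := fun e => (orderOf_pos g).ne' (by rw [hm, e, mul_zero])
    rw [orderOf_pow_of_dvd hm0 (hm ▸ dvd_mul_left m 2), hm, Nat.mul_div_cancel _ (Nat.pos_of_ne_zero hm0)]
  set s := g ^ m with hs
  have hsX : s • X = X := (stabilizer G X).pow_mem hgX m
  have hcase := hpow m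
  by_cases hm2 : Even m
  · rw [if_pos hm2, mul_inv_eq_iff_eq_mul] at hcase
    exact P.not_commute hd hso hcase
  · rw [if_neg hm2] at hcase
    -- `s` and its conjugate by `d` commute, so `d ^ 2` squares to `1`
    have hdX' : d⁻¹ • X = X := by rw [inv_smul_eq_iff, hX]
    have hc := P.comm hso hsX (show orderOf (d * s * d⁻¹) = 2 by rw [orderOf_conj, hso])
      (by rw [mul_smul, mul_smul, hdX', hsX, hX])
    have hsi := inv_eq hso
    have e1 : s * (d * s * d⁻¹) = d⁻¹ * d⁻¹ := by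
      rw [hsi] at hcase
      rw [← mul_assoc, ← mul_assoc, hcase]
    have e2 : (d * s * d⁻¹) * s = d * d := by
      rw [hsi] at hcase
      calc (d * s * d⁻¹) * s = d * (s * d⁻¹ * s) := by group
        _ = d * (s * d * s)⁻¹ := by rw [mul_inv_rev, mul_inv_rev, hsi, mul_assoc]
        _ = d * d := by rw [hcase, inv_inv]
    have e3 : d⁻¹ * d⁻¹ = d * d := by rw [← e1, hc.eq, e2]
    have h4 : orderOf d ∣ 2 ^ 2 := orderOf_dvd_of_pow_eq_one (by
      calc d ^ (2 ^ 2) = d * d * (d * d) := by norm_num [pow_succ, mul_assoc]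
        _ = d * d * (d⁻¹ * d⁻¹) := by rw [e3]
        _ = 1 := by group)
    rw [hd] at h4
    have hp2 := (Nat.prime_dvd_prime_iff_eq P.prime Nat.prime_two).1 (P.prime.dvd_of_dvd_pow h4)
    exact absurd (hp2 ▸ P.odd) (by decide)

end Pts

end Cfsg.Agent.EqSubConj
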